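import Mathlib
import Cfsg.Agent.Lib.Helper17.BaumDefs

/-! S2768/S2769/S2770 farm-out, piece BM-A (see plans/S2768_plan.md). -/

set_option autoImplicit false
set_option linter.unusedVariables false

namespace Cfsg.Agent.Helper17.Baum

universe u v

variable {G : Type u} [Group G]

/-- any proper subgroup containing `S` lies in `M`. -/
theorem le_of_uniq [Finite G] {S M : Subgroup G} (hSM : S ≤ M)
    (huniq : ∀ M' : Subgroup G, IsCoatom M' → S ≤ M' → M' = M) {H : Subgroup G} (hSH : S ≤ H)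
    (hH : H ≠ ⊤) : H ≤ M := by
  rcases eq_top_or_exists_le_coatom H with h | ⟨M', hM', hHM'⟩
  · exact absurd h hH
  · have := huniq M' hM' (hSH.trans hHM')
    rw [← this]
    exact hHM'

theorem dich_of_uniq [Finite G] {S M : Subgroup G} (hSM : S ≤ M)
    (huniq : ∀ M' : Subgroup G, IsCoatom M' → S ≤ M' → M' = M) {N : Subgroup G} (hN : N.Normal) :
    N ≤ M ∨ N ⊔ S = ⊤ := by
  by_cases h : N ⊔ S = ⊤
  · exact Or.inr h
  · exact Or.inl (le_sup_left.trans (le_of_uniq hSM huniq (le_sup_right : S ≤ N ⊔ S) h))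

/-- `[N : N ∩ S] = [SN : S]` for `N` normal. -/
theorem a_relIndex_eq [Finite G] (S N : Subgroup G) (hN : N.Normal) :
    S.relIndex N = S.relIndex (S ⊔ N) := by
  have := hN
  have e1 := Subgroup.relIndex_mul_relIndex (S ⊓ N) N (S ⊔ N) inf_le_right le_sup_right
  have e2 := Subgroup.relIndex_mul_relIndex (S ⊓ N) S (S ⊔ N) inf_le_left le_sup_left
  have e3 : N.relIndex (S ⊔ N) = N.relIndex S := Subgroup.relIndex_sup_right S N
  have e4 : (S ⊓ N).relIndex S = N.relIndex S := Subgroup.inf_relIndex_left S N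
  have e5 : (S ⊓ N).relIndex N = S.relIndex N := Subgroup.inf_relIndex_right S N
  have hx : N.relIndex S ≠ 0 := (N.subgroupOf S).index_ne_zero_of_finite
  rw [e3, e5] at e1
  rw [e4] at e2
  have : S.relIndex N * N.relIndex S = N.relIndex S * S.relIndex (S ⊔ N) := by
    rw [e1, e2]
  rw [mul_comm] at this
  exact Nat.eq_of_mul_eq_mul_left (Nat.pos_of_ne_zero hx) this

/-- `S ∩ N` is a Sylow `p`-subgroup of the normal subgroup `N`. -/
theorem a_sylow_subgroupOf [Finite G] {p : ℕ} [Fact p.Prime] (S : Sylow p G) (N : Subgroup G)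
    (hN : N.Normal) : ∃ P : Sylow p ↥N, (P : Subgroup ↥N) = (S : Subgroup G).subgroupOf N := by
  have hpg : IsPGroup p ((S : Subgroup G).subgroupOf N) :=
    S.2.comap_of_injective N.subtype N.subtype_injective
  have hnd : ¬ p ∣ ((S : Subgroup G).subgroupOf N).index := by
    intro hdvd
    have h1 : ((S : Subgroup G).subgroupOf N).index ∣ (S : Subgroup G).index := by
      show (S : Subgroup G).relIndex N ∣ (S : Subgroup G).index
      rw [a_relIndex_eq (S : Subgroup G) N hN]
      exact Subgroup.relIndex_dvd_index_of_le le_sup_left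
    exact S.not_dvd_index (hdvd.trans h1)
  exact ⟨hpg.toSylow hnd, IsPGroup.toSylow_coe hpg hnd⟩

/-- Frattini argument + uniqueness: a normal subgroup inside `M` meets `S` in a normal subgroup. -/
theorem inf_normal_of_uniq [Finite G] {p : ℕ} [Fact p.Prime] (S : Sylow p G) {M : Subgroup G}
    (hMco : IsCoatom M) (hSM : (S : Subgroup G) ≤ M)
    (huniq : ∀ M' : Subgroup G, IsCoatom M' → (S : Subgroup G) ≤ M' → M' = M) {N : Subgroup G}
    (hN : N.Normal) (hNM : N ≤ M) : (N ⊓ (S : Subgroup G)).Normal := by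
  obtain ⟨P, hP⟩ := a_sylow_subgroupOf S N hN
  have hfr := Sylow.normalizer_sup_eq_top P
  have hmap : (P : Subgroup ↥N).map N.subtype = N ⊓ (S : Subgroup G) := by
    rw [hP, Subgroup.subgroupOf_map_subtype, inf_comm]
  rw [hmap] at hfr
  have hSn : (S : Subgroup G) ≤ Subgroup.normalizer ((N ⊓ (S : Subgroup G) : Subgroup G) : Set G) := by
    intro s hs
    rw [Subgroup.mem_normalizer_iff]
    intro x
    constructor
    · intro hx
      exact ⟨hN.conj_mem x hx.1 s, (S : Subgroup G).mul_mem ((S : Subgroup G).mul_mem hs hx.2)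
        ((S : Subgroup G).inv_mem hs)⟩
    · intro hx
      have e : x = s⁻¹ * (s * x * s⁻¹) * s⁻¹⁻¹ := by group
      rw [e]
      exact ⟨hN.conj_mem _ hx.1 s⁻¹, (S : Subgroup G).mul_mem
        ((S : Subgroup G).mul_mem ((S : Subgroup G).inv_mem hs) hx.2)
        ((S : Subgroup G).inv_mem ((S : Subgroup G).inv_mem hs))⟩
  by_cases htop : Subgroup.normalizer ((N ⊓ (S : Subgroup G) : Subgroup G) : Set G) = ⊤
  · exact Subgroup.normalizer_eq_top_iff.mp htop
  · exfalso
    have h1 := le_of_uniq hSM huniq hSn htop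
    have h2 : (⊤ : Subgroup G) ≤ M := by
      rw [← hfr]
      exact sup_le h1 hNM
    exact hMco.1 (top_le_iff.mp h2)

theorem hypR_le_M [Finite G] {p q : ℕ} {S Q M : Subgroup G} (h : HypR p q S Q M) {H : Subgroup G}
    (hSH : S ≤ H) (hH : H ≠ ⊤) : H ≤ M :=
  le_of_uniq h.SM h.Muniq hSH hH

theorem hypR_dich [Finite G] {p q : ℕ} {S Q M : Subgroup G} (h : HypR p q S Q M) {N : Subgroup G}
    (hN : N.Normal) : N ≤ M ∨ N ⊔ S = ⊤ :=
  dich_of_uniq h.SM h.Muniq hN

theorem hypR_inf_le [Finite G] {p q : ℕ} [Fact p.Prime] {S Q M : Subgroup G} (h : HypR p q S Q M)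
    {N : Subgroup G} (hN : N.Normal) (hNM : N ≤ M) : N ⊓ S ≤ Q := by
  obtain ⟨P, hP⟩ := h.syl
  have hn : (N ⊓ (P : Subgroup G)).Normal :=
    inf_normal_of_uniq P h.Mco (hP ▸ h.SM) (fun M' hM' hS => h.Muniq M' hM' (hP ▸ hS)) hN hNM
  rw [hP] at hn
  exact h.Qmax _ hn (h.pgS.to_le inf_le_right)

/-- a normal subgroup centralized by `S` is central (`G = ⟨S^G⟩`). -/
theorem hypR_central [Finite G] {p q : ℕ} {S Q M : Subgroup G} (h : HypR p q S Q M)
    {N : Subgroup G} (hN : N.Normal) (hNS : N ≤ Subgroup.centralizer (S : Set G)) :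
    N ≤ Subgroup.center G := by
  have hcn : (Subgroup.centralizer (N : Set G)).Normal := by
    have := hN
    infer_instance
  have hS : S ≤ Subgroup.centralizer (N : Set G) := Subgroup.le_centralizer_iff.mp hNS
  have h1 : Subgroup.normalClosure (S : Set G) ≤ Subgroup.centralizer (N : Set G) :=
    Subgroup.normalClosure_le_normal hS
  rw [h.gen] at h1
  have h2 : Subgroup.centralizer (N : Set G) = ⊤ := top_le_iff.mp h1
  exact Subgroup.centralizer_eq_top_iff_subset.mp h2

end Cfsg.Agent.Helper17.Baum
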