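import Mathlib
import Cfsg.Agent.Lib.Helper17.BaumDefs
import Cfsg.Prelude.Def_PLocal

/-! S2768/S2769/S2770 farm-out, piece BM-BR (see plans/S2768_plan.md): the frozen `Z(J(S))` is `YY S`. -/

set_option autoImplicit false

namespace Cfsg.Agent.Helper17.Baum

universe u v

variable {G : Type u} [Group G]

/-- commutativity of a subgroup of `↥S` is `Comm` of its image in `G`. -/
theorem br_comm_map {S : Subgroup G} (A : Subgroup S) :
    IsMulCommutative A ↔ Comm (A.map S.subtype) := by
  constructor
  · intro h a ha b hb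
    obtain ⟨a', ha', rfl⟩ := ha
    obtain ⟨b', hb', rfl⟩ := hb
    have h1 := h.is_comm.comm ⟨a', ha'⟩ ⟨b', hb'⟩
    have h2 : a' * b' = b' * a' := congrArg Subtype.val h1
    rw [← map_mul, ← map_mul, h2]
  · intro h
    refine ⟨⟨fun a b => ?_⟩⟩
    apply Subtype.ext
    apply Subtype.ext
    exact h _ ⟨a.1, a.2, rfl⟩ _ ⟨b.1, b.2, rfl⟩

theorem br_card_map {S : Subgroup G} (A : Subgroup S) :
    Nat.card (A.map S.subtype) = Nat.card A :=
  Subgroup.card_map_of_injective S.subtype_injective

/-- membership in the frozen `maxAbelianSubgroups ↥S` is membership of the image in `AbMax S`. -/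
theorem br_mem_iff {S : Subgroup G} (A : Subgroup S) :
    A ∈ Cfsg.maxAbelianSubgroups S ↔ A.map S.subtype ∈ AbMax S := by
  constructor
  · rintro ⟨hc, hmax⟩
    refine ⟨Subgroup.map_subtype_le A, (br_comm_map A).1 hc, fun E hES hE => ?_⟩
    have hEeq : (E.subgroupOf S).map S.subtype = E := Subgroup.map_subgroupOf_eq_of_le hES
    have hc' : IsMulCommutative (E.subgroupOf S) := by
      rw [br_comm_map, hEeq]
      exact hE
    have h1 := hmax _ hc'
    rw [br_card_map A, ← hEeq, br_card_map]
    exact h1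
  · rintro ⟨_, hc, hmax⟩
    refine ⟨(br_comm_map A).2 hc, fun B hB => ?_⟩
    have h1 := hmax (B.map S.subtype) (Subgroup.map_subtype_le B) ((br_comm_map B).1 hB)
    rw [br_card_map, br_card_map] at h1
    exact h1

/-- the frozen `J(S)` (abelian version) is `JJ S`. -/
theorem br_JJ (S : Subgroup G) : Cfsg.thompsonSubgroupAOf S = JJ S := by
  unfold Cfsg.thompsonSubgroupAOf Cfsg.thompsonSubgroupA JJ
  apply le_antisymm
  · rw [Subgroup.map_le_iff_le_comap]
    refine sSup_le fun A hA => ?_
    rw [← Subgroup.map_le_iff_le_comap]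
    exact le_sSup ((br_mem_iff A).1 hA)
  · refine sSup_le fun B hB => ?_
    have hEeq : (B.subgroupOf S).map S.subtype = B := Subgroup.map_subgroupOf_eq_of_le hB.1
    have hmem : B.subgroupOf S ∈ Cfsg.maxAbelianSubgroups S := by
      rw [br_mem_iff, hEeq]
      exact hB
    rw [← hEeq]
    exact Subgroup.map_mono (le_sSup hmem)

/-- the frozen `Z(J(S))` is `YY S`. -/
theorem bridge_YY (S : Subgroup G) : Cfsg.centerThompsonAOf S = YY S := by
  unfold Cfsg.centerThompsonAOf YY
  rw [br_JJ]

end Cfsg.Agent.Helper17.Baum
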