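import Mathlib
import Cfsg.Agent.Lib.Helper17.BaumDefs

/-! S2768/S2769/S2770 farm-out, piece BM-TH (see plans/S2768_plan.md). -/

set_option autoImplicit false

namespace Cfsg.Agent.Helper17.Baum

universe u v

variable {G : Type u} [Group G]

theorem th_comm_iff (A : Subgroup G) : Comm A ↔ A ≤ Subgroup.centralizer (A : Set G) := by
  constructor
  · intro h a ha
    rw [Subgroup.mem_centralizer_iff]
    intro b hb
    exact h b hb a ha
  · intro h a ha b hb
    have := Subgroup.mem_centralizer_iff.1 (h hb) a ha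
    exact this

theorem th_comm_sup_zpowers {A : Subgroup G} (hA : Comm A) {x : G}
    (hx : x ∈ Subgroup.centralizer (A : Set G)) : Comm (A ⊔ Subgroup.zpowers x) := by
  rw [th_comm_iff]
  have hZA : Subgroup.zpowers x ≤ Subgroup.centralizer (A : Set G) := by
    rw [Subgroup.zpowers_le]
    exact hx
  have hAZ : A ≤ Subgroup.centralizer (Subgroup.zpowers x : Set G) :=
    Subgroup.le_centralizer_iff.1 hZA
  have hZZ : Subgroup.zpowers x ≤ Subgroup.centralizer (Subgroup.zpowers x : Set G) := by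
    rw [Subgroup.zpowers_le, Subgroup.mem_centralizer_iff]
    intro h hh
    obtain ⟨k, rfl⟩ := Subgroup.mem_zpowers_iff.1 hh
    exact ((Commute.refl x).zpow_left k).eq
  have h1 : A ⊔ Subgroup.zpowers x ≤ Subgroup.centralizer (A : Set G) :=
    sup_le ((th_comm_iff A).1 hA) hZA
  have h2 : A ⊔ Subgroup.zpowers x ≤ Subgroup.centralizer (Subgroup.zpowers x : Set G) :=
    sup_le hAZ hZZ
  exact sup_le (Subgroup.le_centralizer_iff.1 h1) (Subgroup.le_centralizer_iff.1 h2)

theorem abmax_nonempty [Finite G] (S : Subgroup G) : (AbMax S).Nonempty := by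
  classical
  have : Nonempty {E : Subgroup G // E ≤ S ∧ Comm E} :=
    ⟨⟨⊥, bot_le, by
      intro a ha b hb
      rw [Subgroup.mem_bot] at ha hb
      rw [ha, hb]⟩⟩
  obtain ⟨A, hA⟩ := Finite.exists_max (fun E : {E : Subgroup G // E ≤ S ∧ Comm E} => Nat.card E.1)
  exact ⟨A.1, A.2.1, A.2.2, fun E hES hE => hA ⟨E, hES, hE⟩⟩

theorem abmax_selfcent [Finite G] {S A : Subgroup G} (hA : A ∈ AbMax S) :
    S ⊓ Subgroup.centralizer (A : Set G) ≤ A := by
  obtain ⟨hAS, hAc, hAmax⟩ := hA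
  intro x hx
  obtain ⟨hxS, hxC⟩ := hx
  have hE : Comm (A ⊔ Subgroup.zpowers x) := th_comm_sup_zpowers hAc hxC
  have hES : A ⊔ Subgroup.zpowers x ≤ S := sup_le hAS (by rw [Subgroup.zpowers_le]; exact hxS)
  have hcard := hAmax _ hES hE
  have hle : A ≤ A ⊔ Subgroup.zpowers x := le_sup_left
  have heq : A = A ⊔ Subgroup.zpowers x :=
    Subgroup.eq_of_le_of_card_ge hle hcard
  rw [heq]
  exact (le_sup_right : Subgroup.zpowers x ≤ A ⊔ Subgroup.zpowers x) (Subgroup.mem_zpowers x)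

theorem JJ_le (S : Subgroup G) : JJ S ≤ S := by
  unfold JJ
  exact sSup_le fun A hA => hA.1

theorem abmax_le_JJ {S A : Subgroup G} (hA : A ∈ AbMax S) : A ≤ JJ S := by
  unfold JJ
  exact le_sSup hA

theorem ZZ_le_abmax [Finite G] {S A : Subgroup G} (hA : A ∈ AbMax S) : ZZ S ≤ A := by
  refine le_trans ?_ (abmax_selfcent hA)
  unfold ZZ
  exact inf_le_inf_left _ (Subgroup.centralizer_le hA.1)

theorem YY_le_abmax [Finite G] {S A : Subgroup G} (hA : A ∈ AbMax S) : YY S ≤ A := by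
  refine le_trans ?_ (abmax_selfcent hA)
  unfold YY
  exact inf_le_inf (JJ_le S) (Subgroup.centralizer_le (abmax_le_JJ hA))

theorem ZZ_le_YY [Finite G] (S : Subgroup G) : ZZ S ≤ YY S := by
  obtain ⟨A, hA⟩ := abmax_nonempty S
  unfold YY
  refine le_inf ((ZZ_le_abmax hA).trans (abmax_le_JJ hA)) ?_
  unfold ZZ
  exact inf_le_right.trans (Subgroup.centralizer_le (JJ_le S))

theorem comm_YY (S : Subgroup G) : Comm (YY S) := by
  intro a ha b hb
  have h := Subgroup.mem_centralizer_iff.1 hb.2 a ha.1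
  exact h

theorem comm_ZZ (S : Subgroup G) : Comm (ZZ S) := by
  intro a ha b hb
  have h := Subgroup.mem_centralizer_iff.1 hb.2 a ha.1
  exact h

theorem abmax_of_le {S R A : Subgroup G} (hRS : R ≤ S) (hA : A ∈ AbMax S) (hAR : A ≤ R) :
    A ∈ AbMax R :=
  ⟨hAR, hA.2.1, fun E hER hE => hA.2.2 E (hER.trans hRS) hE⟩

/-- if some member of `AbMax S` lies in `R ≤ S`, then `AbMax R ⊆ AbMax S`. -/
theorem abmax_of_card [Finite G] {S R A B : Subgroup G} (hRS : R ≤ S) (hA : A ∈ AbMax S)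
    (hAR : A ≤ R) (hB : B ∈ AbMax R) : B ∈ AbMax S := by
  refine ⟨hB.1.trans hRS, hB.2.1, fun E hES hE => ?_⟩
  exact (hA.2.2 E hES hE).trans (hB.2.2 A hAR hA.2.1)

/-- if `J(S) ≤ R ≤ S` then `R` and `S` have the same abelian subgroups of largest order. -/
theorem abmax_eq_of_JJ_le [Finite G] {S R : Subgroup G} (hRS : R ≤ S) (h : JJ S ≤ R) :
    AbMax R = AbMax S := by
  ext B
  constructor
  · intro hB
    obtain ⟨A, hA⟩ := abmax_nonempty S
    exact abmax_of_card hRS hA ((abmax_le_JJ hA).trans h) hB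
  · intro hB
    exact abmax_of_le hRS hB ((abmax_le_JJ hB).trans h)

end Cfsg.Agent.Helper17.Baum
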