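import Mathlib
import Cfsg.Agent.Lib.Helper17.BaumDefs
import Cfsg.Agent.Lib.Baum.TH

/-! S2768/S2769/S2770 farm-out, piece BM-C1 (see plans/S2768_plan.md): `E ∈ AbMax S`, `E ≰ Q` gives
`E Q = S` and `(E ∩ Q) V ∈ AbMax S` (counting with `mod1`). -/

set_option autoImplicit false

namespace Cfsg.Agent.Helper17.Baum

universe u v

variable {G : Type u} [Group G]

theorem c1_card_mul_relIndex {H K : Subgroup G} (hHK : H ≤ K) :
    Nat.card H * H.relIndex K = Nat.card K := by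
  have h1 := Subgroup.relIndex_mul_relIndex (H := ⊥) (K := H) (L := K) bot_le hHK
  rwa [Subgroup.relIndex_bot_left, Subgroup.relIndex_bot_left] at h1

theorem c1_card_sup_mul_card_inf (A N : Subgroup G) [N.Normal] :
    Nat.card (A ⊔ N : Subgroup G) * Nat.card (A ⊓ N : Subgroup G) = Nat.card A * Nat.card N := by
  have h1 : Nat.card N * N.relIndex A = Nat.card (A ⊔ N : Subgroup G) := by
    have h := c1_card_mul_relIndex (H := N) (K := A ⊔ N) le_sup_right
    rwa [Subgroup.relIndex_sup_right] at h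
  have h2 : Nat.card (A ⊓ N : Subgroup G) * N.relIndex A = Nat.card A := by
    have h := c1_card_mul_relIndex (H := A ⊓ N) (K := A) inf_le_left
    rwa [Subgroup.inf_relIndex_left] at h
  rw [← h1, ← h2]
  ring

theorem c1_comm_sup {A B : Subgroup G} (hA : Comm A) (hB : Comm B)
    (hAB : A ≤ Subgroup.centralizer (B : Set G)) : Comm (A ⊔ B) := by
  rw [th_comm_iff]
  have hBA : B ≤ Subgroup.centralizer (A : Set G) := Subgroup.le_centralizer_iff.1 hAB
  have h1 : A ⊔ B ≤ Subgroup.centralizer (A : Set G) := sup_le ((th_comm_iff A).1 hA) hBA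
  have h2 : A ⊔ B ≤ Subgroup.centralizer (B : Set G) := sup_le hAB ((th_comm_iff B).1 hB)
  exact sup_le (Subgroup.le_centralizer_iff.1 h1) (Subgroup.le_centralizer_iff.1 h2)

/-- the arithmetic core of `core_E`. -/
theorem c1_arith {q e e0 v b i c r : ℕ} (hq : 0 < q) (hv : 0 < v) (hi : 0 < i) (he0 : 0 < e0)
    (h1 : b * i = e0 * v) (h2 : i ≤ c) (h3 : q * c ≤ v) (h4 : b ≤ e) (h5 : e0 * r = e)
    (h8 : r ≤ q) : r = q ∧ b = e := by
  have hchain : q * (b * i) ≤ e * v := by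
    calc q * (b * i) ≤ q * (e * c) := Nat.mul_le_mul_left _ (Nat.mul_le_mul h4 h2)
      _ = e * (q * c) := by ring
      _ ≤ e * v := Nat.mul_le_mul_left _ h3
  have hr : q ≤ r := by
    have h6 : (q * e0) * v ≤ (e0 * r) * v := by
      calc (q * e0) * v = q * (b * i) := by rw [h1]; ring
        _ ≤ e * v := hchain
        _ = (e0 * r) * v := by rw [h5]
    have h7 : q * e0 ≤ e0 * r := Nat.le_of_mul_le_mul_right h6 hv
    have h9 : e0 * q ≤ e0 * r := by rwa [mul_comm q e0] at h7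
    exact Nat.le_of_mul_le_mul_left h9 he0
  have hrq : r = q := le_antisymm h8 hr
  refine ⟨hrq, le_antisymm h4 ?_⟩
  by_contra hlt
  rw [not_le] at hlt
  have h10 : q * (b * i) < q * (e * i) :=
    Nat.mul_lt_mul_of_pos_left (Nat.mul_lt_mul_of_pos_right hlt hi) hq
  have h11 : q * (e * i) ≤ e * v := by
    calc q * (e * i) ≤ q * (e * c) := Nat.mul_le_mul_left _ (Nat.mul_le_mul_left _ h2)
      _ = e * (q * c) := by ring
      _ ≤ e * v := Nat.mul_le_mul_left _ h3
  have h12 : e * v = q * (b * i) := by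
    rw [h1, ← h5, hrq]
    ring
  omega

variable [Finite G] {p q : ℕ} [Fact p.Prime] {S Q M V : Subgroup G}

theorem core_E (h : HypR p q S Q M) (hV : HypV p q S Q V) {E : Subgroup G} (hE : E ∈ AbMax S)
    (hEQ : ¬ E ≤ Q) : E ⊔ Q = S ∧ (E ⊓ Q) ⊔ V ∈ AbMax S := by
  haveI := h.Qn
  haveI := hV.Vn
  obtain ⟨hES, hEc, hEmax⟩ := hE
  obtain ⟨a, haE, haQ⟩ := SetLike.not_le_iff_exists.1 hEQ
  have haS : a ∈ S := hES haE
  have hVc : Comm V := fun x hx y hy =>
    Subgroup.mem_centralizer_iff.1 (hV.VcQ hy) x (hV.VQ hx)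
  have hE0c : Comm (E ⊓ Q) := fun x hx y hy => hEc x hx.1 y hy.1
  have hE0V : E ⊓ Q ≤ Subgroup.centralizer (V : Set G) :=
    inf_le_right.trans (Subgroup.le_centralizer_iff.1 hV.VcQ)
  have hBc : Comm ((E ⊓ Q) ⊔ V) := c1_comm_sup hE0c hVc hE0V
  have hBQ : (E ⊓ Q) ⊔ V ≤ Q := sup_le inf_le_right hV.VQ
  have hBS : (E ⊓ Q) ⊔ V ≤ S := hBQ.trans h.QS
  have h4 : Nat.card ((E ⊓ Q) ⊔ V : Subgroup G) ≤ Nat.card E := hEmax _ hBS hBc
  have h1 := c1_card_sup_mul_card_inf (E ⊓ Q) V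
  have hle : (E ⊓ Q) ⊓ V ≤ V ⊓ Subgroup.centralizer ({a} : Set G) := by
    intro x hx
    refine ⟨hx.2, ?_⟩
    show x ∈ Subgroup.centralizer ({a} : Set G)
    rw [Subgroup.mem_centralizer_iff]
    intro y hy
    rw [Set.mem_singleton_iff] at hy
    subst hy
    exact hEc y haE x hx.1.1
  have h2 : Nat.card ((E ⊓ Q) ⊓ V : Subgroup G) ≤
      Nat.card (V ⊓ Subgroup.centralizer ({a} : Set G) : Subgroup G) :=
    Subgroup.card_le_of_le hle
  have h3 := hV.mod1 a haS haQ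
  have h5 : Nat.card (E ⊓ Q : Subgroup G) * Q.relIndex E = Nat.card E := by
    have h' := c1_card_mul_relIndex (H := E ⊓ Q) (K := E) inf_le_left
    rwa [Subgroup.inf_relIndex_left] at h'
  have h6 : Nat.card Q * Q.relIndex E = Nat.card (E ⊔ Q : Subgroup G) := by
    have h' := c1_card_mul_relIndex (H := Q) (K := E ⊔ Q) le_sup_right
    rwa [Subgroup.relIndex_sup_right] at h'
  have hEQS : E ⊔ Q ≤ S := sup_le hES h.QS
  have h7 : Nat.card Q * Q.relIndex S = Nat.card S := c1_card_mul_relIndex h.QS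
  have hQpos : 0 < Nat.card Q := Nat.card_pos
  have hqS : Q.relIndex S = q := by
    have h' : Nat.card Q * Q.relIndex S = Nat.card Q * q := by rw [h7, h.card, mul_comm]
    exact Nat.eq_of_mul_eq_mul_left hQpos h'
  have hq0 : 0 < q := lt_trans Nat.zero_lt_one h.q1
  have h8 : Q.relIndex E ≤ q := by
    apply Nat.le_of_dvd hq0
    rw [← hqS, ← Subgroup.relIndex_sup_right (H := E) (K := Q)]
    exact Dvd.intro _ (Subgroup.relIndex_mul_relIndex Q (E ⊔ Q) S le_sup_right hEQS)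
  obtain ⟨hrq, hbe⟩ := c1_arith hq0 (Nat.card_pos (α := V)) (Nat.card_pos (α := ((E ⊓ Q) ⊓ V : Subgroup G)))
    (Nat.card_pos (α := (E ⊓ Q : Subgroup G))) h1 h2 h3 h4 h5 h8
  constructor
  · apply Subgroup.eq_of_le_of_card_ge hEQS
    rw [← h6, hrq, h.card, mul_comm]
  · refine ⟨hBS, hBc, fun E' hE'S hE' => ?_⟩
    rw [hbe]
    exact hEmax E' hE'S hE'

end Cfsg.Agent.Helper17.Baum
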