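import Mathlib
import Cfsg.Agent.Lib.Helper17.BaumDefs

/-! S2768/S2769/S2770 farm-out, piece BM-TH3 (see plans/S2768_plan.md): proofs by helper19. -/

set_option autoImplicit false

namespace Cfsg.Agent.Helper17.Baum

universe u v

variable {G : Type u} [Group G]

theorem th3_map_symm_map (f : G ≃* G) (H : Subgroup G) :
    (H.map f.toMonoidHom).map f.symm.toMonoidHom = H := by
  ext x
  rw [Subgroup.mem_map_equiv, Subgroup.mem_map_equiv]
  simp

theorem th3_map_map_symm (f : G ≃* G) (H : Subgroup G) :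
    (H.map f.symm.toMonoidHom).map f.toMonoidHom = H := by
  have := th3_map_symm_map f.symm H
  simpa using this

theorem th3_comm_map (f : G ≃* G) {A : Subgroup G} (hA : Comm A) : Comm (A.map f.toMonoidHom) := by
  rintro _ ⟨a, ha, rfl⟩ _ ⟨b, hb, rfl⟩
  show f a * f b = f b * f a
  rw [← map_mul, ← map_mul, hA a ha b hb]

theorem th3_abmax_map (f : G ≃* G) {S A : Subgroup G} (hA : A ∈ AbMax S) :
    A.map f.toMonoidHom ∈ AbMax (S.map f.toMonoidHom) := by
  obtain ⟨hAS, hAc, hAmax⟩ := hA
  refine ⟨Subgroup.map_mono hAS, th3_comm_map f hAc, ?_⟩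
  intro E hES hEc
  have hE' : E.map f.symm.toMonoidHom ≤ S := by
    have := Subgroup.map_mono (f := f.symm.toMonoidHom) hES
    rwa [th3_map_symm_map] at this
  have h1 := hAmax _ hE' (th3_comm_map f.symm hEc)
  rw [Subgroup.card_map_of_injective (f := f.symm.toMonoidHom) f.symm.injective] at h1
  rw [Subgroup.card_map_of_injective (f := f.toMonoidHom) f.injective]
  exact h1

theorem abmax_map_equiv (f : G ≃* G) (S A : Subgroup G) :
    A ∈ AbMax S ↔ A.map f.toMonoidHom ∈ AbMax (S.map f.toMonoidHom) := by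
  constructor
  · exact th3_abmax_map f
  · intro h
    have := th3_abmax_map f.symm h
    rwa [th3_map_symm_map, th3_map_symm_map] at this

theorem JJ_map_equiv (f : G ≃* G) (S : Subgroup G) :
    JJ (S.map f.toMonoidHom) = (JJ S).map f.toMonoidHom := by
  apply le_antisymm
  · unfold JJ
    apply sSup_le
    intro B hB
    have hB' : B.map f.symm.toMonoidHom ∈ AbMax S := by
      have := th3_abmax_map f.symm hB
      rwa [th3_map_symm_map] at this
    have h1 : B.map f.symm.toMonoidHom ≤ sSup (AbMax S) := le_sSup hB'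
    have h2 := Subgroup.map_mono (f := f.toMonoidHom) h1
    rwa [th3_map_map_symm] at h2
  · rw [Subgroup.map_le_iff_le_comap]
    unfold JJ
    apply sSup_le
    intro A hA
    rw [← Subgroup.map_le_iff_le_comap]
    exact le_sSup (th3_abmax_map f hA)

theorem YY_map_equiv (f : G ≃* G) (S : Subgroup G) :
    YY (S.map f.toMonoidHom) = (YY S).map f.toMonoidHom := by
  ext x
  rw [Subgroup.mem_map_equiv]
  unfold YY
  rw [JJ_map_equiv, Subgroup.mem_inf, Subgroup.mem_inf, Subgroup.mem_map_equiv,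
    Subgroup.mem_centralizer_iff, Subgroup.mem_centralizer_iff]
  constructor
  · rintro ⟨h1, h2⟩
    refine ⟨h1, ?_⟩
    intro j hj
    have hfj : f j ∈ ((JJ S).map f.toMonoidHom : Set G) := ⟨j, hj, rfl⟩
    have h3 := h2 (f j) hfj
    have h4 := congrArg f.symm h3
    simpa using h4
  · rintro ⟨h1, h2⟩
    refine ⟨h1, ?_⟩
    rintro _ ⟨j, hj, rfl⟩
    have h3 := h2 j hj
    have h4 := congrArg f h3
    simpa using h4

theorem th3_map_conj_eq {S : Subgroup G} {n : G} (hn : n ∈ Subgroup.normalizer (S : Set G)) :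
    S.map (MulAut.conj n).toMonoidHom = S := by
  ext x
  rw [Subgroup.mem_map_equiv]
  have h1 := (Subgroup.mem_normalizer_iff.1 hn) (n⁻¹ * x * n)
  have h2 : n * (n⁻¹ * x * n) * n⁻¹ = x := by group
  rw [h2] at h1
  have h3 : (MulAut.conj n).symm x = n⁻¹ * x * n := by
    rw [MulAut.conj_symm_apply]
  rw [h3]
  exact h1

theorem th3_mem_normalizer_of_map_eq {H : Subgroup G} {n : G}
    (h : H.map (MulAut.conj n).toMonoidHom = H) : n ∈ Subgroup.normalizer (H : Set G) := by
  rw [Subgroup.mem_normalizer_iff]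
  intro x
  constructor
  · intro hx
    rw [← h]
    exact ⟨x, hx, by simp [MulAut.conj_apply]⟩
  · intro hx
    rw [← h] at hx
    obtain ⟨k, hk, hkx⟩ := hx
    have h1 : n * k * n⁻¹ = n * x * n⁻¹ := by simpa [MulAut.conj_apply] using hkx
    have h2 : k = x := by
      have := congrArg (fun t => n⁻¹ * t * n) h1
      simpa [mul_assoc] using this
    rw [← h2]
    exact hk

theorem normalizer_le_JJ (S : Subgroup G) :
    Subgroup.normalizer (S : Set G) ≤ Subgroup.normalizer (JJ S : Set G) := by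
  intro n hn
  apply th3_mem_normalizer_of_map_eq
  rw [← JJ_map_equiv, th3_map_conj_eq hn]

theorem normalizer_le_YY (S : Subgroup G) :
    Subgroup.normalizer (S : Set G) ≤ Subgroup.normalizer (YY S : Set G) := by
  intro n hn
  apply th3_mem_normalizer_of_map_eq
  rw [← YY_map_equiv, th3_map_conj_eq hn]

/-- conjugating by `n` preserves `S ⊓ C(T)` when `n` normalizes `S` and `T`. -/
theorem th3_conj_mem_inf_centralizer {S T : Subgroup G} {n : G}
    (hnS : n ∈ Subgroup.normalizer (S : Set G)) (hnT : n ∈ Subgroup.normalizer (T : Set G))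
    {x : G} (hx : x ∈ S ⊓ Subgroup.centralizer (T : Set G)) :
    n * x * n⁻¹ ∈ S ⊓ Subgroup.centralizer (T : Set G) := by
  refine ⟨(Subgroup.mem_normalizer_iff.1 hnS x).1 hx.1, ?_⟩
  show n * x * n⁻¹ ∈ Subgroup.centralizer (T : Set G)
  rw [Subgroup.mem_centralizer_iff]
  intro y hy
  have hy' : n⁻¹ * y * n ∈ T := by
    apply (Subgroup.mem_normalizer_iff.1 hnT (n⁻¹ * y * n)).2
    have : n * (n⁻¹ * y * n) * n⁻¹ = y := by group
    rw [this]
    exact hy
  have hxc : x ∈ Subgroup.centralizer (T : Set G) := hx.2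
  have h2 := (Subgroup.mem_centralizer_iff.1 hxc) _ hy'
  calc y * (n * x * n⁻¹) = n * ((n⁻¹ * y * n) * x) * n⁻¹ := by group
    _ = n * (x * (n⁻¹ * y * n)) * n⁻¹ := by rw [h2]
    _ = n * x * n⁻¹ * y := by group

theorem th3_normalizer_le_inf_centralizer {S T : Subgroup G} {n : G}
    (hnS : n ∈ Subgroup.normalizer (S : Set G)) (hnT : n ∈ Subgroup.normalizer (T : Set G)) :
    n ∈ Subgroup.normalizer ((S ⊓ Subgroup.centralizer (T : Set G) : Subgroup G) : Set G) := by
  rw [Subgroup.mem_normalizer_iff]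
  intro x
  constructor
  · intro hx
    exact th3_conj_mem_inf_centralizer hnS hnT hx
  · intro hx
    have hnS' : n⁻¹ ∈ Subgroup.normalizer (S : Set G) := Subgroup.inv_mem _ hnS
    have hnT' : n⁻¹ ∈ Subgroup.normalizer (T : Set G) := Subgroup.inv_mem _ hnT
    have := th3_conj_mem_inf_centralizer hnS' hnT' hx
    have h2 : n⁻¹ * (n * x * n⁻¹) * n⁻¹⁻¹ = x := by group
    rwa [h2] at this

theorem normalizer_le_BB (S : Subgroup G) :
    Subgroup.normalizer (S : Set G) ≤ Subgroup.normalizer (BB S : Set G) := by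
  intro n hn
  unfold BB
  exact th3_normalizer_le_inf_centralizer hn (normalizer_le_YY S hn)

theorem normalizer_le_ZZ (S : Subgroup G) :
    Subgroup.normalizer (S : Set G) ≤ Subgroup.normalizer (ZZ S : Set G) := by
  intro n hn
  unfold ZZ
  exact th3_normalizer_le_inf_centralizer hn hn

theorem JJ_normal {S : Subgroup G} (hS : S.Normal) : (JJ S).Normal := by
  rw [← Subgroup.normalizer_eq_top_iff, eq_top_iff]
  exact (Subgroup.normalizer_eq_top_iff.2 hS).ge.trans (normalizer_le_JJ S)

theorem YY_normal {S : Subgroup G} (hS : S.Normal) : (YY S).Normal := by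
  rw [← Subgroup.normalizer_eq_top_iff, eq_top_iff]
  exact (Subgroup.normalizer_eq_top_iff.2 hS).ge.trans (normalizer_le_YY S)

theorem ZZ_normal {S : Subgroup G} (hS : S.Normal) : (ZZ S).Normal := by
  rw [← Subgroup.normalizer_eq_top_iff, eq_top_iff]
  exact (Subgroup.normalizer_eq_top_iff.2 hS).ge.trans (normalizer_le_ZZ S)

/-- in a finite group, `n S n⁻¹ ⊆ S` puts `n` in the normalizer. -/
theorem mem_normalizer_of_conj_mem [Finite G] {S : Subgroup G} {n : G}
    (hn : ∀ x ∈ S, n * x * n⁻¹ ∈ S) : n ∈ Subgroup.normalizer (S : Set G) := by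
  apply th3_mem_normalizer_of_map_eq
  have hle : S.map (MulAut.conj n).toMonoidHom ≤ S := by
    rintro _ ⟨x, hx, rfl⟩
    have := hn x hx
    simpa [MulAut.conj_apply] using this
  apply Subgroup.eq_of_le_of_card_ge hle
  rw [Subgroup.card_map_of_injective (f := (MulAut.conj n).toMonoidHom) (MulAut.conj n).injective]

end Cfsg.Agent.Helper17.Baum
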