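import Mathlib
import Cfsg.Agent.Lib.Helper17.BaumDefs
import Cfsg.Agent.Lib.Baum.C1
import Cfsg.Agent.Lib.Baum.A
import Cfsg.Agent.Lib.Baum.TH3
import Cfsg.Agent.Lib.Baum.TH

/-! S2768/S2769/S2770 farm-out, piece BM-C4 (see plans/S2768_plan.md): the normal closure `F` of `J(S)`. -/

set_option autoImplicit false

namespace Cfsg.Agent.Helper17.Baum

universe u v

variable {G : Type u} [Group G]

variable [Finite G] {p q : ℕ} [Fact p.Prime] {S Q M V : Subgroup G}

theorem core_F (h : HypR p q S Q M) (hV : HypV p q S Q V) {E : Subgroup G} (hE : E ∈ AbMax S)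
    (hEQ : ¬ E ≤ Q) :
    Subgroup.normalClosure (JJ S : Set G) ⊔ Q = ⊤ ∧
    Subgroup.normalClosure (JJ S : Set G) ⊔ S = ⊤ ∧
    (∀ x ∈ Subgroup.normalClosure (JJ S : Set G) ⊓ S,
      ∃ e ∈ E, ∃ u ∈ Subgroup.normalClosure (JJ S : Set G) ⊓ Q, x = e * u) ∧
    Subgroup.normalClosure (JJ S : Set G) ≤ Subgroup.closure
      {x : G | ∃ f ∈ Subgroup.normalClosure (JJ S : Set G), ∃ j ∈ JJ S, x = f * j * f⁻¹} := by
  have hFn : (Subgroup.normalClosure (JJ S : Set G)).Normal := Subgroup.normalClosure_normal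
  have hQn : Q.Normal := h.Qn
  have hES : E ≤ S := hE.1
  have hEJ : E ≤ JJ S := abmax_le_JJ hE
  have hJF : JJ S ≤ Subgroup.normalClosure (JJ S : Set G) := Subgroup.subset_normalClosure
  have hEF : E ≤ Subgroup.normalClosure (JJ S : Set G) := hEJ.trans hJF
  have hEQS : E ⊔ Q = S := (core_E h hV hE hEQ).1
  -- `F ⊔ S = ⊤`
  have hFS : Subgroup.normalClosure (JJ S : Set G) ⊔ S = ⊤ := by
    rcases hypR_dich h hFn with hFM | hFS
    · exfalso
      apply hEQ
      exact (le_inf hEF hES).trans (hypR_inf_le h hFn hFM)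
    · exact hFS
  -- `F ⊔ Q = ⊤`
  have hFQ : Subgroup.normalClosure (JJ S : Set G) ⊔ Q = ⊤ := by
    have hSle : S ≤ Subgroup.normalClosure (JJ S : Set G) ⊔ Q := by
      have h1 : E ⊔ Q ≤ Subgroup.normalClosure (JJ S : Set G) ⊔ Q :=
        sup_le (hEF.trans le_sup_left) le_sup_right
      exact hEQS.ge.trans h1
    have h2 : Subgroup.normalClosure (JJ S : Set G) ⊔ S ≤
        Subgroup.normalClosure (JJ S : Set G) ⊔ Q := sup_le le_sup_left hSle
    exact eq_top_iff.2 (hFS.ge.trans h2)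
  refine ⟨hFQ, hFS, ?_, ?_⟩
  · -- Dedekind
    intro x hx
    have hxS : x ∈ E ⊔ Q := by rw [hEQS]; exact hx.2
    obtain ⟨e, he, u, hu, heu⟩ := Subgroup.mem_sup_of_normal_right.1 hxS
    refine ⟨e, he, u, ⟨?_, hu⟩, heu.symm⟩
    have : u = e⁻¹ * x := by rw [← heu]; group
    rw [this]
    exact Subgroup.mul_mem _ (Subgroup.inv_mem _ (hEF he)) hx.1
  · -- generation by `F`-conjugates
    unfold Subgroup.normalClosure
    rw [Subgroup.closure_le]
    intro x hx
    obtain ⟨j, hj, hjx⟩ := Group.mem_conjugatesOfSet_iff.1 hx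
    obtain ⟨g, hg⟩ := isConj_iff.1 hjx
    have hgtop : g ∈ Subgroup.closure (Group.conjugatesOfSet (JJ S : Set G)) ⊔ S := by
      have := hFS
      unfold Subgroup.normalClosure at this
      rw [this]
      exact Subgroup.mem_top g
    have : (Subgroup.closure (Group.conjugatesOfSet (JJ S : Set G))).Normal := hFn
    obtain ⟨f, hf, s, hs, hfs⟩ := Subgroup.mem_sup_of_normal_left.1 hgtop
    apply Subgroup.subset_closure
    have hsN : s ∈ Subgroup.normalizer (JJ S : Set G) :=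
      normalizer_le_JJ S (Subgroup.le_normalizer hs)
    have hsj : s * j * s⁻¹ ∈ JJ S := (Subgroup.mem_normalizer_iff.1 hsN j).1 hj
    refine ⟨f, hf, s * j * s⁻¹, hsj, ?_⟩
    rw [← hg, ← hfs]
    group

end Cfsg.Agent.Helper17.Baum
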