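import Mathlib
import Cfsg.Agent.Lib.Helper17.BaumDefs
import Cfsg.Agent.Lib.Baum.C1

/-! S2768/S2769/S2770 farm-out, piece BM-C2 (see plans/S2768_plan.md). -/

set_option autoImplicit false

namespace Cfsg.Agent.Helper17.Baum

universe u v

variable {G : Type u} [Group G]

variable [Finite G] {p q : ℕ} [Fact p.Prime] {S Q M V : Subgroup G}

theorem core_Q (h : HypR p q S Q M) (hV : HypV p q S Q V) (hE : ∃ E ∈ AbMax S, ¬ E ≤ Q) :
    AbMax Q ⊆ AbMax S ∧ JJ Q ≤ JJ S ∧ V ≤ YY Q ∧ YY S ≤ YY Q := by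
  obtain ⟨E, hE, hEQ⟩ := hE
  obtain ⟨-, hB⟩ := core_E h hV hE hEQ
  have hBQ : (E ⊓ Q) ⊔ V ≤ Q := sup_le inf_le_right hV.VQ
  have hsub : AbMax Q ⊆ AbMax S := fun B' hB' => abmax_of_card h.QS hB hBQ hB'
  have hJ : JJ Q ≤ JJ S := by
    unfold JJ
    exact sSup_le_sSup hsub
  obtain ⟨A0, hA0⟩ := abmax_nonempty Q
  have hVY : V ≤ YY Q := by
    unfold YY
    refine le_inf ?_ ?_
    · have h1 : V ≤ Q ⊓ Subgroup.centralizer (A0 : Set G) :=
        le_inf hV.VQ (hV.VcQ.trans (Subgroup.centralizer_le hA0.1))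
      exact (h1.trans (abmax_selfcent hA0)).trans (abmax_le_JJ hA0)
    · exact hV.VcQ.trans (Subgroup.centralizer_le (JJ_le Q))
  have hYcS : YY S ≤ Subgroup.centralizer (JJ S : Set G) := by
    unfold YY
    exact inf_le_right
  have hYQ : YY S ≤ Q := (YY_le_abmax hB).trans hBQ
  have hYY : YY S ≤ YY Q := by
    show YY S ≤ JJ Q ⊓ Subgroup.centralizer (JJ Q : Set G)
    refine le_inf ?_ ?_
    · have h1 : YY S ≤ Q ⊓ Subgroup.centralizer (A0 : Set G) :=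
        le_inf hYQ (hYcS.trans (Subgroup.centralizer_le ((abmax_le_JJ hA0).trans hJ)))
      exact (h1.trans (abmax_selfcent hA0)).trans (abmax_le_JJ hA0)
    · exact hYcS.trans (Subgroup.centralizer_le hJ)
  exact ⟨hsub, hJ, hVY, hYY⟩

end Cfsg.Agent.Helper17.Baum
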