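import Mathlib
import Cfsg.Agent.Lib.Helper17.BaumDefs

/-! S2768/S2769/S2770 farm-out, piece BM-G1 (see plans/S2768_plan.md): commutator bookkeeping. -/

set_option autoImplicit false

namespace Cfsg.Agent.Helper17.Baum

open scoped commutatorElement

universe u v

variable {G : Type u} [Group G]

/-- the elements `x` with `[n, x] ∈ V` for all `n ∈ N1` form a subgroup (`V` normal). -/
def g1_sub (N1 V : Subgroup G) (hV : V.Normal) : Subgroup G where
  carrier := {x | ∀ n ∈ N1, n * x * n⁻¹ * x⁻¹ ∈ V}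
  one_mem' := by
    intro n _
    have : n * 1 * n⁻¹ * (1 : G)⁻¹ = 1 := by group
    rw [this]
    exact V.one_mem
  mul_mem' := by
    intro x y hx hy n hn
    have e : n * (x * y) * n⁻¹ * (x * y)⁻¹ =
        (n * x * n⁻¹ * x⁻¹) * (x * (n * y * n⁻¹ * y⁻¹) * x⁻¹) := by group
    rw [e]
    exact V.mul_mem (hx n hn) (hV.conj_mem _ (hy n hn) x)
  inv_mem' := by
    intro x hx n hn
    have e : n * x⁻¹ * n⁻¹ * x⁻¹⁻¹ = x⁻¹ * (n * x * n⁻¹ * x⁻¹)⁻¹ * x⁻¹⁻¹ := by group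
    rw [e]
    exact hV.conj_mem _ (V.inv_mem (hx n hn)) x⁻¹

theorem g1_mem_sub {N1 V : Subgroup G} {hV : V.Normal} {x : G} :
    x ∈ g1_sub N1 V hV ↔ ∀ n ∈ N1, n * x * n⁻¹ * x⁻¹ ∈ V := Iff.rfl

theorem g1_sub_normal {N1 V : Subgroup G} (hN1 : N1.Normal) (hV : V.Normal) :
    (g1_sub N1 V hV).Normal := by
  constructor
  intro x hx g n hn
  have hn' : g⁻¹ * n * g⁻¹⁻¹ ∈ N1 := hN1.conj_mem n hn g⁻¹
  have h1 := hx _ hn'
  have e : n * (g * x * g⁻¹) * n⁻¹ * (g * x * g⁻¹)⁻¹ =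
      g * (g⁻¹ * n * g⁻¹⁻¹ * x * (g⁻¹ * n * g⁻¹⁻¹)⁻¹ * x⁻¹) * g⁻¹ := by group
  rw [e]
  exact hV.conj_mem _ h1 g

theorem comm_mem_of_sSup {N1 V : Subgroup G} (hV : V.Normal) {𝒜 : Set (Subgroup G)}
    (h : ∀ E ∈ 𝒜, ∀ n ∈ N1, ∀ x ∈ E, n * x * n⁻¹ * x⁻¹ ∈ V) :
    ∀ n ∈ N1, ∀ x ∈ sSup 𝒜, n * x * n⁻¹ * x⁻¹ ∈ V := by
  have hle : sSup 𝒜 ≤ g1_sub N1 V hV := by
    apply sSup_le
    intro E hE x hx n hn
    exact h E hE n hn x hx
  intro n hn x hx
  exact hle hx n hn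

theorem comm_le_normalClosure {N1 V J : Subgroup G} (hN1 : N1.Normal) (hV : V.Normal)
    (h : ∀ n ∈ N1, ∀ x ∈ J, n * x * n⁻¹ * x⁻¹ ∈ V) :
    ⁅N1, Subgroup.normalClosure (J : Set G)⁆ ≤ V := by
  have hKn : (g1_sub N1 V hV).Normal := g1_sub_normal hN1 hV
  have hle : Subgroup.normalClosure (J : Set G) ≤ g1_sub N1 V hV := by
    apply Subgroup.normalClosure_le_normal
    intro x hx n hn
    exact h n hn x hx
  rw [Subgroup.commutator_le]
  intro n hn x hx
  rw [commutatorElement_def]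
  exact hle hx n hn

/-- `t` commutes with `S` and is central modulo `Z(G)` against `F = ⟨J^G⟩`, `J ≤ S`, `G = F S`: then `t` is central. -/
theorem central_of_comm_central {S J : Subgroup G} (hJS : J ≤ S)
    (hFS : Subgroup.normalClosure (J : Set G) ⊔ S = ⊤) {t : G} (htS : ∀ s ∈ S, s * t = t * s)
    (htF : ∀ f ∈ Subgroup.normalClosure (J : Set G), f * t * f⁻¹ * t⁻¹ ∈ Subgroup.center G) :
    t ∈ Subgroup.center G := by
  have hFn : (Subgroup.normalClosure (J : Set G)).Normal := Subgroup.normalClosure_normal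
  -- conjugation by `f ∈ F` preserves commuting with `t`
  have hconjF : ∀ f ∈ Subgroup.normalClosure (J : Set G), ∀ k : G, k * t = t * k →
      (f * k * f⁻¹) * t = t * (f * k * f⁻¹) := by
    intro f hf k hk
    have ha := htF f⁻¹ (Subgroup.inv_mem _ hf)
    rw [inv_inv] at ha
    have hz : ∀ g : G, g * (f⁻¹ * t * f * t⁻¹) = (f⁻¹ * t * f * t⁻¹) * g :=
      Subgroup.mem_center_iff.1 ha
    have e1 : f⁻¹ * t * f = (f⁻¹ * t * f * t⁻¹) * t := by group
    have e2 : (f⁻¹ * t * f * t⁻¹) * f * t * f⁻¹ = t := by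
      rw [← hz f]; group
    calc f * k * f⁻¹ * t = f * k * (f⁻¹ * t * f) * f⁻¹ := by group
      _ = f * k * ((f⁻¹ * t * f * t⁻¹) * t) * f⁻¹ := by rw [← e1]
      _ = f * (k * (f⁻¹ * t * f * t⁻¹)) * t * f⁻¹ := by group
      _ = f * ((f⁻¹ * t * f * t⁻¹) * k) * t * f⁻¹ := by rw [hz k]
      _ = (f * (f⁻¹ * t * f * t⁻¹)) * (k * t) * f⁻¹ := by group
      _ = ((f⁻¹ * t * f * t⁻¹) * f) * (t * k) * f⁻¹ := by rw [hz f, hk]
      _ = ((f⁻¹ * t * f * t⁻¹) * f * t * f⁻¹) * (f * k * f⁻¹) := by group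
      _ = t * (f * k * f⁻¹) := by rw [e2]
  -- `K0 = F ⊓ C(t)` is normal in `G`
  have hK0n : (Subgroup.normalClosure (J : Set G) ⊓ Subgroup.centralizer ({t} : Set G)).Normal := by
    constructor
    intro k hk g
    have hkF := hk.1
    have hkt : k * t = t * k := Subgroup.mem_centralizer_singleton_iff.1 hk.2
    have hg : g ∈ Subgroup.normalClosure (J : Set G) ⊔ S := by rw [hFS]; exact Subgroup.mem_top g
    obtain ⟨f, hf, s, hs, hfs⟩ := Subgroup.mem_sup_of_normal_left.1 hg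
    have hst := htS s hs
    have hsk : (s * k * s⁻¹) * t = t * (s * k * s⁻¹) := by
      have hst' : s⁻¹ * t = t * s⁻¹ := by
        calc s⁻¹ * t = s⁻¹ * (t * s) * s⁻¹ := by group
          _ = s⁻¹ * (s * t) * s⁻¹ := by rw [hst]
          _ = t * s⁻¹ := by group
      calc s * k * s⁻¹ * t = s * k * (s⁻¹ * t) := by group
        _ = s * k * (t * s⁻¹) := by rw [hst']
        _ = s * (k * t) * s⁻¹ := by group
        _ = s * (t * k) * s⁻¹ := by rw [hkt]
        _ = (s * t) * k * s⁻¹ := by group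
        _ = (t * s) * k * s⁻¹ := by rw [hst]
        _ = t * (s * k * s⁻¹) := by group
    have e : g * k * g⁻¹ = f * (s * k * s⁻¹) * f⁻¹ := by rw [← hfs]; group
    rw [e]
    refine ⟨hFn.conj_mem _ (hFn.conj_mem _ hkF s) f, ?_⟩
    exact Subgroup.mem_centralizer_singleton_iff.2 (hconjF f hf _ hsk)
  have hFle : Subgroup.normalClosure (J : Set G) ≤
      Subgroup.normalClosure (J : Set G) ⊓ Subgroup.centralizer ({t} : Set G) := by
    apply Subgroup.normalClosure_le_normal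
    intro x hx
    exact ⟨Subgroup.subset_normalClosure hx,
      Subgroup.mem_centralizer_singleton_iff.2 (htS x (hJS hx))⟩
  rw [Subgroup.mem_center_iff]
  intro g
  have hg : g ∈ Subgroup.normalClosure (J : Set G) ⊔ S := by rw [hFS]; exact Subgroup.mem_top g
  obtain ⟨f, hf, s, hs, hfs⟩ := Subgroup.mem_sup_of_normal_left.1 hg
  have hft : f * t = t * f := Subgroup.mem_centralizer_singleton_iff.1 (hFle hf).2
  rw [← hfs, mul_assoc, htS s hs, ← mul_assoc, hft, mul_assoc]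

end Cfsg.Agent.Helper17.Baum
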