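import Mathlib
import Cfsg.Agent.Lib.Helper17.BaumDefs
import Cfsg.Agent.Lib.Baum.C2
import Cfsg.Agent.Lib.Baum.G1
import Cfsg.Agent.Lib.Baum.TH3

/-! S2768/S2769/S2770 farm-out, piece BM-C3 (see plans/S2768_plan.md). -/

set_option autoImplicit false
set_option linter.unusedVariables false

namespace Cfsg.Agent.Helper17.Baum

universe u v

variable {G : Type u} [Group G]

variable [Finite G] {p q : ℕ} [Fact p.Prime] {S Q M V : Subgroup G}

/-- the elementwise form: `[n, x] ∈ V` for `n ∈ N1`, `x` in a member of `AbMax S`. -/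
theorem c3_aux1 (h : HypR p q S Q M) (hV : HypV p q S Q V)
    {N1 : Subgroup G} (hN1Q : N1 ≤ Q)
    (hN1c : N1 ≤ Subgroup.centralizer (JJ Q : Set G)) {E' : Subgroup G} (hE' : E' ∈ AbMax S) :
    ∀ n ∈ N1, ∀ x ∈ E', n * x * n⁻¹ * x⁻¹ ∈ V := by
  intro n hn x hx
  have hVn : V.Normal := hV.Vn
  by_cases hEQ : E' ≤ Q
  · -- `E' ∈ AbMax Q`, `E' ≤ JJ Q`, so `n` commutes with `x`
    have hE'Q : E' ∈ AbMax Q := abmax_of_le h.QS hE' hEQ
    have hxJ : x ∈ JJ Q := abmax_le_JJ hE'Q hx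
    have hc := Subgroup.mem_centralizer_iff.1 (hN1c hn) x hxJ
    -- hc : x * n = n * x
    have e : n * x * n⁻¹ * x⁻¹ = 1 := by
      rw [← hc]; group
    rw [e]
    exact V.one_mem
  · obtain ⟨-, hB⟩ := core_E h hV hE' hEQ
    have hBQ : (E' ⊓ Q) ⊔ V ≤ Q := sup_le inf_le_right hV.VQ
    have hBAQ : (E' ⊓ Q) ⊔ V ∈ AbMax Q := abmax_of_le h.QS hB hBQ
    have hnB : n ∈ (E' ⊓ Q) ⊔ V := by
      apply abmax_selfcent hBAQ
      refine ⟨hN1Q hn, ?_⟩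
      exact Subgroup.centralizer_le (abmax_le_JJ hBAQ) (hN1c hn)
    obtain ⟨e, he, v, hv, hev⟩ := Subgroup.mem_sup_of_normal_right.1 hnB
    have hex : e * x = x * e := hE'.2.1 e he.1 x hx
    have hvx : v * x * v⁻¹ * x⁻¹ ∈ V := by
      have h1 : x * v⁻¹ * x⁻¹ ∈ V := hVn.conj_mem _ (V.inv_mem hv) x
      have e1 : v * x * v⁻¹ * x⁻¹ = v * (x * v⁻¹ * x⁻¹) := by group
      rw [e1]
      exact V.mul_mem hv h1
    have hxe : x * e⁻¹ = e⁻¹ * x := by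
      calc x * e⁻¹ = e⁻¹ * (e * x) * e⁻¹ := by group
        _ = e⁻¹ * (x * e) * e⁻¹ := by rw [hex]
        _ = e⁻¹ * x := by group
    have e2 : n * x * n⁻¹ * x⁻¹ = e * (v * x * v⁻¹ * x⁻¹) * e⁻¹ := by
      rw [← hev]
      calc e * v * x * (e * v)⁻¹ * x⁻¹ = e * v * x * v⁻¹ * (e⁻¹ * x⁻¹) := by group
        _ = e * v * x * v⁻¹ * (x * e)⁻¹ := by group
        _ = e * v * x * v⁻¹ * (e * x)⁻¹ := by rw [hex]
        _ = e * (v * x * v⁻¹ * x⁻¹) * e⁻¹ := by group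
    rw [e2]
    exact hVn.conj_mem _ hvx e

theorem core_comm (h : HypR p q S Q M) (hV : HypV p q S Q V) (hE : ∃ E ∈ AbMax S, ¬ E ≤ Q)
    {N1 : Subgroup G} (hN1n : N1.Normal) (hN1Q : N1 ≤ Q)
    (hN1c : N1 ≤ Subgroup.centralizer (JJ Q : Set G)) :
    ⁅N1, Subgroup.normalClosure (JJ S : Set G)⁆ ≤ V := by
  apply comm_le_normalClosure hN1n hV.Vn
  have := comm_mem_of_sSup (N1 := N1) hV.Vn (𝒜 := AbMax S)
    (fun E' hE' n hn x hx => c3_aux1 h hV hN1Q hN1c hE' n hn x hx)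
  exact this

theorem core_comm_YQ (h : HypR p q S Q M) (hV : HypV p q S Q V) (hE : ∃ E ∈ AbMax S, ¬ E ≤ Q) :
    ⁅YY Q, Subgroup.normalClosure (JJ S : Set G)⁆ ≤ V := by
  apply core_comm h hV hE (YY_normal h.Qn)
  · unfold YY
    exact inf_le_left.trans (JJ_le Q)
  · unfold YY
    exact inf_le_right

theorem core_comm_ZQ (h : HypR p q S Q M) (hV : HypV p q S Q V) (hE : ∃ E ∈ AbMax S, ¬ E ≤ Q) :
    ⁅ZZ Q, Subgroup.normalClosure (JJ S : Set G)⁆ ≤ V := by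
  apply core_comm h hV hE (ZZ_normal h.Qn)
  · unfold ZZ
    exact inf_le_left
  · unfold ZZ
    exact inf_le_right.trans (Subgroup.centralizer_le (JJ_le Q))

end Cfsg.Agent.Helper17.Baum
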