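import Mathlib
import Cfsg.Agent.Lib.Helper17.BaumDefs
import Cfsg.Agent.Lib.Baum.C2
import Cfsg.Agent.Lib.Baum.C3
import Cfsg.Agent.Lib.Baum.C4
import Cfsg.Agent.Lib.Baum.TH3

/-! S2768/S2769/S2770 farm-out, piece BM-C5 (see plans/S2768_plan.md): the normal closure of `Z(J(S))`. -/

set_option autoImplicit false

namespace Cfsg.Agent.Helper17.Baum

open scoped commutatorElement

universe u v

variable {G : Type u} [Group G]

variable [Finite G] {p q : ℕ} [Fact p.Prime] {S Q M V : Subgroup G}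

theorem core_W (h : HypR p q S Q M) (hV : HypV p q S Q V) (hE : ∃ E ∈ AbMax S, ¬ E ≤ Q) :
    Subgroup.normalClosure (YY S : Set G) ≤ YY S ⊔ V ∧
    Subgroup.normalClosure (YY S : Set G) ≤ YY Q := by
  obtain ⟨E, hEm, hEQ⟩ := hE
  have hE' : ∃ E ∈ AbMax S, ¬ E ≤ Q := ⟨E, hEm, hEQ⟩
  have hFn : (Subgroup.normalClosure (JJ S : Set G)).Normal := Subgroup.normalClosure_normal
  have hQn : Q.Normal := h.Qn
  have hVn : V.Normal := hV.Vn
  obtain ⟨-, -, hVYQ, hYSYQ⟩ := core_Q h hV hE'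
  have hcomm := core_comm_YQ h hV hE'
  have hFQ := (core_F h hV hEm hEQ).1
  -- conjugates of `Y` lie in `Y ⊔ V`
  have hconj : ∀ g : G, ∀ y ∈ YY S, g * y * g⁻¹ ∈ YY S ⊔ V := by
    intro g y hy
    have hg : g ∈ Subgroup.normalClosure (JJ S : Set G) ⊔ Q := by
      rw [hFQ]; exact Subgroup.mem_top g
    obtain ⟨f, hf, u, hu, hfu⟩ := Subgroup.mem_sup_of_normal_left.1 hg
    have huN : u ∈ Subgroup.normalizer (YY S : Set G) :=
      normalizer_le_YY S (Subgroup.le_normalizer (h.QS hu))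
    have hy' : u * y * u⁻¹ ∈ YY S := (Subgroup.mem_normalizer_iff.1 huN y).1 hy
    have hc : ⁅u * y * u⁻¹, f⁆ ∈ V :=
      hcomm (Subgroup.commutator_mem_commutator (hYSYQ hy') hf)
    have hc' : f * (u * y * u⁻¹) * f⁻¹ * (u * y * u⁻¹)⁻¹ ∈ V := by
      have := Subgroup.inv_mem _ hc
      rw [commutatorElement_def] at this
      have e : (u * y * u⁻¹ * f * (u * y * u⁻¹)⁻¹ * f⁻¹)⁻¹ =
          f * (u * y * u⁻¹) * f⁻¹ * (u * y * u⁻¹)⁻¹ := by group
      rwa [e] at this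
    have e2 : g * y * g⁻¹ =
        (f * (u * y * u⁻¹) * f⁻¹ * (u * y * u⁻¹)⁻¹) * (u * y * u⁻¹) := by
      rw [← hfu]; group
    rw [e2]
    exact Subgroup.mul_mem _ (Subgroup.mem_sup_right hc') (Subgroup.mem_sup_left hy')
  have h1 : Subgroup.normalClosure (YY S : Set G) ≤ YY S ⊔ V := by
    unfold Subgroup.normalClosure
    rw [Subgroup.closure_le]
    intro x hx
    obtain ⟨y, hy, hyx⟩ := Group.mem_conjugatesOfSet_iff.1 hx
    obtain ⟨g, hg⟩ := isConj_iff.1 hyx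
    rw [← hg]
    exact hconj g y hy
  exact ⟨h1, h1.trans (sup_le hYSYQ hVYQ)⟩

end Cfsg.Agent.Helper17.Baum
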