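import Mathlib
import Cfsg.Agent.Lib.Helper17.BaumDefs
import Cfsg.Agent.Lib.Baum.C5

/-! S2768/S2769/S2770 farm-out, piece BM-C6 (see plans/S2768_plan.md): `[W, F ⊓ Q] ≤ Z(G)` for
`W = ⟨Z(J(S))^G⟩`, `F = ⟨J(S)^G⟩`. -/

set_option autoImplicit false

namespace Cfsg.Agent.Helper17.Baum

open scoped commutatorElement

universe u v

variable {G : Type u} [Group G]

variable [Finite G] {p q : ℕ} [Fact p.Prime] {S Q M V : Subgroup G}

theorem core_WU (h : HypR p q S Q M) (hV : HypV p q S Q V) (hE : ∃ E ∈ AbMax S, ¬ E ≤ Q) :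
    ⁅Subgroup.normalClosure (YY S : Set G), Subgroup.normalClosure (JJ S : Set G) ⊓ Q⁆ ≤
      Subgroup.center G := by
  obtain ⟨E, hEm, hEQ⟩ := hE
  have hE' : ∃ E ∈ AbMax S, ¬ E ≤ Q := ⟨E, hEm, hEQ⟩
  have hFn : (Subgroup.normalClosure (JJ S : Set G)).Normal := Subgroup.normalClosure_normal
  have hWn : (Subgroup.normalClosure (YY S : Set G)).Normal := Subgroup.normalClosure_normal
  have hQn : Q.Normal := h.Qn
  have hVn : V.Normal := hV.Vn
  have hUn : (Subgroup.normalClosure (JJ S : Set G) ⊓ Q).Normal := Subgroup.normal_inf_normal _ _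
  obtain ⟨-, -, -, hYSYQ⟩ := core_Q h hV hE'
  have hcomm := core_comm_YQ h hV hE'
  obtain ⟨hW1, -⟩ := core_W h hV hE'
  obtain ⟨hEQS, -⟩ := core_E h hV hEm hEQ
  have hYE : YY S ≤ E := YY_le_abmax hEm
  have hEc : Comm E := hEm.2.1
  -- the commutator subgroup is normal
  have hCn : (⁅Subgroup.normalClosure (YY S : Set G),
      Subgroup.normalClosure (JJ S : Set G) ⊓ Q⁆).Normal := Subgroup.commutator_normal _ _
  apply hypR_central h hCn
  rw [Subgroup.commutator_le]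
  intro w hw u hu
  -- decompose `w = y * v`
  have hw' : w ∈ YY S ⊔ V := hW1 hw
  obtain ⟨y, hy, v, hv, hyv⟩ := Subgroup.mem_sup_of_normal_right.1 hw'
  have huF : u ∈ Subgroup.normalClosure (JJ S : Set G) := hu.1
  have huQ : u ∈ Q := hu.2
  -- `v` commutes with `u`
  have hvu : v * u = u * v := by
    have := hV.VcQ hv
    rw [Subgroup.mem_centralizer_iff] at this
    exact (this u huQ).symm
  have e1 : ⁅w, u⁆ = ⁅y, u⁆ := by
    rw [← hyv, commutatorElement_def, commutatorElement_def]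
    calc y * v * u * (y * v)⁻¹ * u⁻¹ = y * (v * u) * v⁻¹ * y⁻¹ * u⁻¹ := by group
      _ = y * (u * v) * v⁻¹ * y⁻¹ * u⁻¹ := by rw [hvu]
      _ = y * u * y⁻¹ * u⁻¹ := by group
  rw [e1]
  -- `[y,u] ∈ V`
  have hcV : ⁅y, u⁆ ∈ V := hcomm (Subgroup.commutator_mem_commutator (hYSYQ hy) huF)
  -- `[y,u] ∈ YY S`
  have huN : u ∈ Subgroup.normalizer (YY S : Set G) :=
    normalizer_le_YY S (Subgroup.le_normalizer (h.QS huQ))
  have hcY : ⁅y, u⁆ ∈ YY S := by
    rw [commutatorElement_def]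
    have h1 : u * y⁻¹ * u⁻¹ ∈ YY S :=
      (Subgroup.mem_normalizer_iff.1 huN y⁻¹).1 (Subgroup.inv_mem _ hy)
    have e : y * u * y⁻¹ * u⁻¹ = y * (u * y⁻¹ * u⁻¹) := by group
    rw [e]
    exact Subgroup.mul_mem _ hy h1
  -- hence `[y,u]` centralizes `E ⊔ Q = S`
  rw [Subgroup.mem_centralizer_iff]
  intro s hs
  have hs' : s ∈ E ⊔ Q := by rw [hEQS]; exact hs
  have hEle : E ≤ Subgroup.centralizer ({⁅y, u⁆} : Set G) := by
    intro e he
    rw [Subgroup.mem_centralizer_iff]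
    intro c hc
    rw [Set.mem_singleton_iff] at hc
    rw [hc]
    exact (hEc e he _ (hYE hcY)).symm
  have hQle : Q ≤ Subgroup.centralizer ({⁅y, u⁆} : Set G) := by
    intro x hx
    rw [Subgroup.mem_centralizer_iff]
    intro c hc
    rw [Set.mem_singleton_iff] at hc
    rw [hc]
    have := hV.VcQ hcV
    rw [Subgroup.mem_centralizer_iff] at this
    exact (this x hx).symm
  have hs2 := (sup_le hEle hQle) hs'
  rw [Subgroup.mem_centralizer_iff] at hs2
  exact (hs2 _ (Set.mem_singleton _)).symm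

end Cfsg.Agent.Helper17.Baum
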