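import Mathlib
import Cfsg.Agent.Lib.Helper17.BaumDefs
import Cfsg.Agent.Lib.Baum.C6
import Cfsg.Agent.Lib.Baum.S3

/-! S2768/S2769/S2770 farm-out, piece BM-C9A (see plans/S2768_plan.md): proofs by helper19. -/

set_option autoImplicit false

namespace Cfsg.Agent.Helper17.Baum

universe u v

variable {G : Type u} [Group G]

variable [Finite G] {p q : ℕ} [Fact p.Prime] {S Q M V : Subgroup G}

theorem core_UF (h : HypR p q S Q M) (hV : HypV p q S Q V) (hE : ∃ E ∈ AbMax S, ¬ E ≤ Q) :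
    ⁅Subgroup.normalClosure (JJ S : Set G) ⊓ Q, Subgroup.normalClosure (JJ S : Set G)⁆ ≤
      Subgroup.centralizer (Subgroup.normalClosure (YY S : Set G) : Set G) := by
  set F : Subgroup G := Subgroup.normalClosure (JJ S : Set G) with hF
  set W : Subgroup G := Subgroup.normalClosure (YY S : Set G) with hW
  -- `[F, W] ≤ V`
  have hFW : ⁅F, W⁆ ≤ V := by
    rw [Subgroup.commutator_comm]
    exact (Subgroup.commutator_mono (core_W h hV hE).2 le_rfl).trans (core_comm_YQ h hV hE)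
  -- `[V, F ⊓ Q] = ⊥`
  have hVU : ⁅V, F ⊓ Q⁆ = ⊥ := by
    rw [Subgroup.commutator_eq_bot_iff_le_centralizer]
    intro v hv
    have hv' := hV.VcQ hv
    rw [Subgroup.mem_centralizer_iff] at hv' ⊢
    intro u hu
    exact hv' u hu.2
  have h1 : ⁅⁅F, W⁆, F ⊓ Q⁆ ≤ (⊥ : Subgroup G) := by
    rw [← hVU]
    exact Subgroup.commutator_mono hFW le_rfl
  -- `[[W, F ⊓ Q], F] = ⊥`
  have h2 : ⁅⁅W, F ⊓ Q⁆, F⁆ ≤ (⊥ : Subgroup G) := by
    have hc : ⁅Subgroup.center G, F⁆ = ⊥ := by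
      rw [Subgroup.commutator_eq_bot_iff_le_centralizer]
      intro z hz
      rw [Subgroup.mem_centralizer_iff]
      intro f _
      exact (Subgroup.mem_center_iff.1 hz f)
    rw [← hc]
    exact Subgroup.commutator_mono (core_WU h hV hE) le_rfl
  have h3 : ⁅⁅F ⊓ Q, F⁆, W⁆ ≤ (⊥ : Subgroup G) :=
    three_subgroups_mod (N := ⊥) (A := F) (B := W) (C := F ⊓ Q) Subgroup.normal_bot h1 h2
  exact Subgroup.commutator_eq_bot_iff_le_centralizer.1 (le_bot_iff.1 h3)

end Cfsg.Agent.Helper17.Baum
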