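import Mathlib
import Cfsg.Agent.Lib.Helper17.BaumDefs
import Cfsg.Agent.Lib.Baum.C4

/-! S2768/S2769/S2770 farm-out, piece BM-C9B (see plans/S2768_plan.md): proofs by helper19. -/

set_option autoImplicit false

namespace Cfsg.Agent.Helper17.Baum

universe u v

variable {G : Type u} [Group G]

variable [Finite G] {p q : ℕ} [Fact p.Prime] {S Q M V : Subgroup G}

/-- `F ∩ S = E (F ∩ Q)` is abelian modulo `[F ∩ Q, F]`. -/
theorem core_P_comm (h : HypR p q S Q M) (hV : HypV p q S Q V) (hE : ∃ E ∈ AbMax S, ¬ E ≤ Q) :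
    ∀ x ∈ Subgroup.normalClosure (JJ S : Set G) ⊓ S,
      ∀ y ∈ Subgroup.normalClosure (JJ S : Set G) ⊓ S,
        x * y * x⁻¹ * y⁻¹ ∈
          ⁅Subgroup.normalClosure (JJ S : Set G) ⊓ Q, Subgroup.normalClosure (JJ S : Set G)⁆ := by
  obtain ⟨E, hEm, hEQ⟩ := hE
  set F : Subgroup G := Subgroup.normalClosure (JJ S : Set G) with hF
  have hFn : F.Normal := Subgroup.normalClosure_normal
  have hQn : Q.Normal := h.Qn
  have hUn : (F ⊓ Q).Normal := by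
    have := hFn
    have := hQn
    infer_instance
  have hDn : (⁅F ⊓ Q, F⁆ : Subgroup G).Normal := by
    have := hFn
    have := hUn
    exact Subgroup.commutator_normal (F ⊓ Q) F
  have hEF : E ≤ F := (abmax_le_JJ hEm).trans Subgroup.le_normalClosure
  have hEc : Comm E := hEm.2.1
  obtain ⟨-, -, hdec, -⟩ := core_F h hV hEm hEQ
  intro x hx y hy
  obtain ⟨e, he, u, hu, rfl⟩ := hdec x hx
  obtain ⟨e', he', u', hu', rfl⟩ := hdec y hy
  -- work in the quotient by `D = [F ⊓ Q, F]`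
  rw [← QuotientGroup.eq_one_iff (N := ⁅F ⊓ Q, F⁆)]
  -- images of elements of `F ⊓ Q` commute with images of elements of `F`
  have hcen : ∀ a ∈ F ⊓ Q, ∀ f ∈ F,
      Commute ((a : G) : G ⧸ (⁅F ⊓ Q, F⁆ : Subgroup G)) ((f : G) : G ⧸ (⁅F ⊓ Q, F⁆ : Subgroup G)) := by
    intro a ha f hf
    have hmem : a * f * a⁻¹ * f⁻¹ ∈ (⁅F ⊓ Q, F⁆ : Subgroup G) :=
      Subgroup.commutator_mem_commutator ha hf
    have h1 : (((a * f * a⁻¹ * f⁻¹ : G)) : G ⧸ (⁅F ⊓ Q, F⁆ : Subgroup G)) = 1 :=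
      (QuotientGroup.eq_one_iff _).2 hmem
    show ((a : G) : G ⧸ (⁅F ⊓ Q, F⁆ : Subgroup G)) * (f : G) = (f : G) * (a : G)
    rw [QuotientGroup.mk_mul, QuotientGroup.mk_mul, QuotientGroup.mk_mul, QuotientGroup.mk_inv,
      QuotientGroup.mk_inv] at h1
    calc ((a : G) : G ⧸ (⁅F ⊓ Q, F⁆ : Subgroup G)) * (f : G)
        = ((a : G) * (f : G) * ((a : G) : G ⧸ (⁅F ⊓ Q, F⁆ : Subgroup G))⁻¹ *
            ((f : G) : G ⧸ (⁅F ⊓ Q, F⁆ : Subgroup G))⁻¹) * ((f : G) * (a : G)) := by group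
      _ = (f : G) * (a : G) := by rw [h1, one_mul]
  have hee : Commute ((e : G) : G ⧸ (⁅F ⊓ Q, F⁆ : Subgroup G)) (e' : G) := by
    show ((e : G) : G ⧸ (⁅F ⊓ Q, F⁆ : Subgroup G)) * (e' : G) = (e' : G) * (e : G)
    rw [← QuotientGroup.mk_mul, ← QuotientGroup.mk_mul, hEc e he e' he']
  have hue' : Commute ((u : G) : G ⧸ (⁅F ⊓ Q, F⁆ : Subgroup G)) (e' : G) := hcen u hu e' (hEF he')
  have huu' : Commute ((u : G) : G ⧸ (⁅F ⊓ Q, F⁆ : Subgroup G)) (u' : G) := hcen u hu u' hu'.1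
  have heu' : Commute ((e : G) : G ⧸ (⁅F ⊓ Q, F⁆ : Subgroup G)) (u' : G) :=
    (hcen u' hu' e (hEF he)).symm
  have hcomm : Commute (((e * u : G)) : G ⧸ (⁅F ⊓ Q, F⁆ : Subgroup G)) ((e' * u' : G)) := by
    rw [QuotientGroup.mk_mul, QuotientGroup.mk_mul]
    exact (hee.mul_right heu').mul_left (hue'.mul_right huu')
  show (((e * u : G)) : G ⧸ (⁅F ⊓ Q, F⁆ : Subgroup G)) * ((e' * u' : G)) *
      (((e * u : G)) : G ⧸ (⁅F ⊓ Q, F⁆ : Subgroup G))⁻¹ *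
      (((e' * u' : G)) : G ⧸ (⁅F ⊓ Q, F⁆ : Subgroup G))⁻¹ = 1
  rw [hcomm.eq]
  group

/-- `N(F ∩ S)` normalizes `F ∩ C_S(Z(J(S)))` (because `J(F ∩ S) = J(S)`). -/
theorem core_P_norm (S : Subgroup G) :
    ∀ n : G, (∀ x ∈ Subgroup.normalClosure (JJ S : Set G) ⊓ S,
        n * x * n⁻¹ ∈ Subgroup.normalClosure (JJ S : Set G) ⊓ S) →
      ∀ j ∈ Subgroup.normalClosure (JJ S : Set G) ⊓ BB S,
        n * j * n⁻¹ ∈ Subgroup.normalClosure (JJ S : Set G) ⊓ BB S := by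
  intro n hn j hj
  set F : Subgroup G := Subgroup.normalClosure (JJ S : Set G) with hF
  set R : Subgroup G := F ⊓ S with hR
  have hnR : n ∈ Subgroup.normalizer (R : Set G) := mem_normalizer_of_conj_mem hn
  have hJR : JJ S ≤ R := le_inf Subgroup.le_normalClosure (JJ_le S)
  have hAb : AbMax R = AbMax S := abmax_eq_of_JJ_le inf_le_right hJR
  have hJJ : JJ R = JJ S := by unfold JJ; rw [hAb]
  have hYY : YY R = YY S := by unfold YY; rw [hJJ]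
  have hnY : n ∈ Subgroup.normalizer (YY S : Set G) := by
    rw [← hYY]
    exact normalizer_le_YY R hnR
  have hjR : j ∈ R := ⟨hj.1, hj.2.1⟩
  have hjc : j ∈ Subgroup.centralizer (YY S : Set G) := hj.2.2
  have hconj : n * j * n⁻¹ ∈ R := hn j hjR
  refine ⟨hconj.1, hconj.2, ?_⟩
  show n * j * n⁻¹ ∈ Subgroup.centralizer (YY S : Set G)
  rw [Subgroup.mem_centralizer_iff]
  intro y hy
  -- `n⁻¹ y n ∈ YY S`
  have hy' : n⁻¹ * y * n ∈ YY S := by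
    have h1 := (Subgroup.mem_normalizer_iff.1 hnY (n⁻¹ * y * n))
    apply h1.2
    have : n * (n⁻¹ * y * n) * n⁻¹ = y := by group
    rw [this]
    exact hy
  have h2 := (Subgroup.mem_centralizer_iff.1 hjc) _ hy'
  -- `(n⁻¹ y n) j = j (n⁻¹ y n)`
  calc y * (n * j * n⁻¹) = n * ((n⁻¹ * y * n) * j) * n⁻¹ := by group
    _ = n * (j * (n⁻¹ * y * n)) * n⁻¹ := by rw [h2]
    _ = n * j * n⁻¹ * y := by group

end Cfsg.Agent.Helper17.Baum
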