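import Mathlib
import Cfsg.Agent.Lib.Helper17.BaumDefs
import Cfsg.Agent.Lib.Helper10.SylowMore

/-! S2768/S2769/S2770 farm-out, piece BM-SY (see plans/S2768_plan.md).  Proved by helper18. -/

set_option autoImplicit false

namespace Cfsg.Agent.Helper17.Baum

universe u v

variable {G : Type u} [Group G]

theorem sylow_inf_normal [Finite G] {p : ℕ} [Fact p.Prime] (S : Sylow p G) (N : Subgroup G)
    [N.Normal] : ∃ P : Sylow p ↥N, (P : Subgroup ↥N) = (S : Subgroup G).subgroupOf N := by
  have h1 : ¬ p ∣ ((S : Subgroup G) ⊓ N).relIndex N :=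
    Cfsg.Agent.Helper10.inf_normal_relSylow (S : Subgroup G) N S.isPGroup' S.not_dvd_index
  have h2 : IsPGroup p ((S : Subgroup G).subgroupOf N) := S.isPGroup'.comap_subtype
  have h3 : ¬ p ∣ ((S : Subgroup G).subgroupOf N).index := by
    rw [← Subgroup.relIndex, ← Subgroup.inf_relIndex_right]
    exact h1
  exact ⟨h2.toSylow h3, IsPGroup.toSylow_coe h2 h3⟩

end Cfsg.Agent.Helper17.Baum
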