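import Mathlib
import Cfsg.Agent.Lib.Helper17.BaumDefs

/-! S2768/S2769/S2770 farm-out, piece BM-TR (see plans/S2768_plan.md).  Proved by helper18. -/

set_option autoImplicit false

namespace Cfsg.Agent.Helper17.Baum

universe u v

variable {G : Type u} [Group G]

open scoped IsMulCommutative in
/-- transfer into an abelian Sylow subgroup: a central element of `P` lies in every subgroup `J ≤ P`
that is invariant under `N_H(P)` and whose normal closure is `H`. -/
theorem tr_main {H : Type u} [Group H] [Finite H] {p : ℕ} [Fact p.Prime] (P : Sylow p H)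
    (hab : ∀ x ∈ (P : Subgroup H), ∀ y ∈ (P : Subgroup H), x * y = y * x)
    (J : Subgroup H) (hJP : J ≤ (P : Subgroup H))
    (hN : ∀ n ∈ Subgroup.normalizer ((P : Subgroup H) : Set H), ∀ j ∈ J, n * j * n⁻¹ ∈ J)
    (hgen : Subgroup.normalClosure (J : Set H) = ⊤)
    (z : H) (hzP : z ∈ (P : Subgroup H)) (hz : z ∈ Subgroup.center H) : z ∈ J := by
  classical
  have hPc : IsMulCommutative ↥(P : Subgroup H) :=
    ⟨⟨fun a b => Subtype.ext (hab a a.2 b b.2)⟩⟩
  have hPc' : IsMulCommutative ↥P := hPc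
  set JP : Subgroup ↥(P : Subgroup H) := J.subgroupOf (P : Subgroup H) with hJP'
  let ϕ : ↥(P : Subgroup H) →* (↥(P : Subgroup H) ⧸ JP) := QuotientGroup.mk' JP
  -- Step 1: `J ≤ ker τ`
  have h1 : ∀ x ∈ J, MonoidHom.transfer ϕ x = 1 := by
    intro x hx
    have : Fintype (Quotient (MulAction.orbitRel (Subgroup.zpowers x) (H ⧸ (P : Subgroup H)))) :=
      Fintype.ofFinite _
    rw [MonoidHom.transfer_eq_prod_quotient_orbitRel_zpowers_quot ϕ x]
    apply Finset.prod_eq_one
    intro q _
    have hmem : q.out.out⁻¹ * x ^ Function.minimalPeriod (x • ·) q.out * q.out.out ∈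
        (P : Subgroup H) := QuotientGroup.out_conj_pow_minimalPeriod_mem _ x q.out
    have hxk : x ^ Function.minimalPeriod (x • ·) q.out ∈ J := J.pow_mem hx _
    obtain ⟨n, hn, hconj⟩ := P.conj_eq_normalizer_conj_of_mem
      (x ^ Function.minimalPeriod (x • ·) q.out) q.out.out (hJP hxk) hmem
    show QuotientGroup.mk' JP _ = 1
    rw [QuotientGroup.mk'_apply, QuotientGroup.eq_one_iff, hJP', Subgroup.mem_subgroupOf]
    show q.out.out⁻¹ * x ^ Function.minimalPeriod (x • ·) q.out * q.out.out ∈ J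
    rw [hconj]
    have := hN n⁻¹ (Subgroup.inv_mem _ hn) _ hxk
    simpa using this
  -- Step 2: `ker τ = ⊤`
  have h2 : (MonoidHom.transfer ϕ).ker = ⊤ := by
    rw [eq_top_iff, ← hgen]
    exact Subgroup.normalClosure_le_normal (fun x hx => h1 x hx)
  have h3 : MonoidHom.transfer ϕ z = 1 := by
    have : z ∈ (MonoidHom.transfer ϕ).ker := by rw [h2]; trivial
    exact this
  have key : ∀ (k : ℕ) (g₀ : H), g₀⁻¹ * z ^ k * g₀ ∈ (P : Subgroup H) →
      g₀⁻¹ * z ^ k * g₀ = z ^ k := by
    intro k g₀ _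
    have hc : z ^ k ∈ Subgroup.center H := Subgroup.pow_mem _ hz k
    rw [Subgroup.mem_center_iff] at hc
    rw [mul_assoc, ← hc g₀, ← mul_assoc, inv_mul_cancel, one_mul]
  have h4 := MonoidHom.transfer_eq_pow ϕ z key
  rw [h3] at h4
  have h5 : z ^ (P : Subgroup H).index ∈ J := by
    have h6 := h4.symm
    change QuotientGroup.mk' JP _ = 1 at h6
    rw [QuotientGroup.mk'_apply, QuotientGroup.eq_one_iff, hJP', Subgroup.mem_subgroupOf] at h6
    exact h6
  -- `z` is a `p`-element and the index is prime to `p`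
  obtain ⟨a, ha⟩ := (IsPGroup.iff_orderOf.mp P.isPGroup') ⟨z, hzP⟩
  have hord : orderOf z = p ^ a := by
    rw [← ha]; exact (Subgroup.orderOf_mk z hzP).symm
  have hcop : ((P : Subgroup H).index).Coprime (orderOf z) := by
    rw [hord]
    apply Nat.Coprime.pow_right
    rw [Nat.coprime_comm, Nat.Prime.coprime_iff_not_dvd Fact.out]
    exact P.not_dvd_index
  obtain ⟨m, hm⟩ := exists_pow_eq_self_of_coprime hcop
  rw [← hm]
  exact J.pow_mem h5 m

end Cfsg.Agent.Helper17.Baum
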