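import Mathlib
import Cfsg.Agent.Lib.Helper17.BaumDefs
import Cfsg.Agent.Lib.Baum.TR

/-! S2768/S2769/S2770 farm-out, piece BM-TRQ (see plans/S2768_plan.md).  Proved by helper18. -/

set_option autoImplicit false

namespace Cfsg.Agent.Helper17.Baum

universe u v

variable {G : Type u} [Group G]

/-- `tr_main` applied to `H ⧸ D`. -/
theorem trq_main {H : Type u} [Group H] [Finite H] {p : ℕ} [Fact p.Prime] (P : Sylow p H)
    (D J : Subgroup H) (hD : D.Normal) (hDJ : D ≤ J) (hJP : J ≤ (P : Subgroup H))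
    (hab : ∀ x ∈ (P : Subgroup H), ∀ y ∈ (P : Subgroup H), x * y * x⁻¹ * y⁻¹ ∈ D)
    (hN : ∀ n ∈ Subgroup.normalizer ((P : Subgroup H) : Set H), ∀ j ∈ J, n * j * n⁻¹ ∈ J)
    (hgen : Subgroup.normalClosure (J : Set H) = ⊤)
    (z : H) (hzP : z ∈ (P : Subgroup H)) (hz : ∀ f : H, f * z * f⁻¹ * z⁻¹ ∈ D) : z ∈ J := by
  classical
  have := hD
  set π := QuotientGroup.mk' D with hπ
  have hπs : Function.Surjective π := QuotientGroup.mk'_surjective D
  have hker : ∀ x : H, π x = 1 ↔ x ∈ D := fun x => by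
    rw [hπ, QuotientGroup.mk'_apply]; exact QuotientGroup.eq_one_iff x
  set Pb : Sylow p (H ⧸ D) := P.mapSurjective hπs with hPb
  have hPbc : (Pb : Subgroup (H ⧸ D)) = (P : Subgroup H).map π := Sylow.coe_mapSurjective hπs P
  have hDP : D ≤ (P : Subgroup H) := hDJ.trans hJP
  -- membership in `P` is detected in the quotient
  have hmemP : ∀ x : H, π x ∈ (P : Subgroup H).map π → x ∈ (P : Subgroup H) := by
    rintro x ⟨y, hy, hyx⟩
    have h1 : y⁻¹ * x ∈ D := by
      rw [← hker, map_mul, map_inv, hyx, inv_mul_cancel]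
    have h2 : x = y * (y⁻¹ * x) := by group
    rw [h2]
    exact (P : Subgroup H).mul_mem hy (hDP h1)
  have hcomm : ∀ a b : H, a * b * a⁻¹ * b⁻¹ ∈ D → π a * π b = π b * π a := by
    intro a b h
    have h1 := (hker _).mpr h
    rw [map_mul, map_mul, map_mul, map_inv, map_inv] at h1
    have h2 : π a * π b * (π a)⁻¹ = π b := mul_inv_eq_one.mp h1
    calc π a * π b = (π a * π b * (π a)⁻¹) * π a := by group
      _ = π b * π a := by rw [h2]
  have hres : π z ∈ J.map π := by
    apply tr_main Pb ?_ (J.map π) ?_ ?_ ?_ (π z) ?_ ?_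
    · -- abelian
      intro x hx y hy
      rw [hPbc] at hx hy
      obtain ⟨a, ha, rfl⟩ := hx
      obtain ⟨b, hb, rfl⟩ := hy
      exact hcomm a b (hab a ha b hb)
    · rw [hPbc]; exact Subgroup.map_mono hJP
    · -- normalizer invariance
      intro nb hnb jb hjb
      obtain ⟨n, rfl⟩ := hπs nb
      obtain ⟨j, hj, rfl⟩ := hjb
      have hn : n ∈ Subgroup.normalizer ((P : Subgroup H) : Set H) := by
        rw [Subgroup.mem_normalizer_iff]
        intro h
        have hnb' := (Subgroup.mem_normalizer_iff.mp hnb) (π h)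
        rw [hPbc] at hnb'
        constructor
        · intro hh
          apply hmemP
          rw [map_mul, map_mul, map_inv]
          exact hnb'.mp (Subgroup.mem_map_of_mem π hh)
        · intro hh
          apply hmemP
          apply hnb'.mpr
          have := Subgroup.mem_map_of_mem π hh
          rwa [map_mul, map_mul, map_inv] at this
      refine ⟨n * j * n⁻¹, hN n hn j hj, ?_⟩
      rw [map_mul, map_mul, map_inv]
    · -- generation
      have h1 := Subgroup.map_normalClosure (J : Set H) π hπs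
      rw [hgen, Subgroup.map_top_of_surjective π hπs] at h1
      rw [Subgroup.coe_map]
      exact h1.symm
    · rw [hPbc]; exact Subgroup.mem_map_of_mem π hzP
    · rw [Subgroup.mem_center_iff]
      intro fb
      obtain ⟨f, rfl⟩ := hπs fb
      exact hcomm f z (hz f)
  obtain ⟨j, hj, hjz⟩ := hres
  have h1 : j⁻¹ * z ∈ D := by
    rw [← hker, map_mul, map_inv, hjz, inv_mul_cancel]
  have h2 : z = j * (j⁻¹ * z) := by group
  rw [h2]
  exact J.mul_mem hj (hDJ h1)

end Cfsg.Agent.Helper17.Baum
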