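import Mathlib
import Cfsg.Agent.Lib.Helper17.BaumDefs
import Cfsg.Agent.Lib.Baum.TRQ
import Cfsg.Agent.Lib.Baum.SY

/-! S2768/S2769/S2770 farm-out, piece BM-TRG (see plans/S2768_plan.md).  Proved by helper18. -/

set_option autoImplicit false

namespace Cfsg.Agent.Helper17.Baum

universe u v

variable {G : Type u} [Group G]

/-- `trq_main` applied to `H = ↥F`, `F` normal in `G`, with the Sylow subgroup `F ⊓ S` of `F`. -/
theorem trg_main [Finite G] {p : ℕ} [Fact p.Prime] (S : Sylow p G) (F D J : Subgroup G)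
    (hF : F.Normal) (hD : ∀ f ∈ F, ∀ d ∈ D, f * d * f⁻¹ ∈ D) (hDJ : D ≤ J)
    (hJ : J ≤ F ⊓ (S : Subgroup G))
    (hab : ∀ x ∈ F ⊓ (S : Subgroup G), ∀ y ∈ F ⊓ (S : Subgroup G), x * y * x⁻¹ * y⁻¹ ∈ D)
    (hN : ∀ n ∈ F, (∀ x ∈ F ⊓ (S : Subgroup G), n * x * n⁻¹ ∈ F ⊓ (S : Subgroup G)) →
      ∀ j ∈ J, n * j * n⁻¹ ∈ J)
    (hgen : F ≤ Subgroup.closure {x : G | ∃ f ∈ F, ∃ j ∈ J, x = f * j * f⁻¹})
    (z : G) (hzP : z ∈ F ⊓ (S : Subgroup G)) (hz : ∀ f ∈ F, f * z * f⁻¹ * z⁻¹ ∈ D) : z ∈ J := by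
  classical
  have := hF
  obtain ⟨P, hP⟩ := sylow_inf_normal S F
  have hmemP : ∀ x : ↥F, x ∈ (P : Subgroup ↥F) ↔ (x : G) ∈ (S : Subgroup G) := by
    intro x
    rw [hP, Subgroup.mem_subgroupOf]
  have hJF : J ≤ F := hJ.trans inf_le_left
  have hDn : (D.subgroupOf F).Normal := by
    constructor
    intro d hd f
    rw [Subgroup.mem_subgroupOf] at hd ⊢
    exact hD f f.2 d hd
  have hres : (⟨z, hzP.1⟩ : ↥F) ∈ J.subgroupOf F := by
    apply trq_main P (D.subgroupOf F) (J.subgroupOf F) hDn ?_ ?_ ?_ ?_ ?_ (⟨z, hzP.1⟩ : ↥F) ?_ ?_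
    · intro x hx
      rw [Subgroup.mem_subgroupOf] at hx ⊢
      exact hDJ hx
    · intro x hx
      rw [Subgroup.mem_subgroupOf] at hx
      rw [hmemP]
      exact (hJ hx).2
    · intro x hx y hy
      rw [hmemP] at hx hy
      rw [Subgroup.mem_subgroupOf]
      exact hab x ⟨x.2, hx⟩ y ⟨y.2, hy⟩
    · intro n hn j hj
      rw [Subgroup.mem_subgroupOf] at hj ⊢
      apply hN n n.2 ?_ j hj
      intro x hx
      refine ⟨hF.conj_mem x hx.1 n, ?_⟩
      have h1 : (⟨x, hx.1⟩ : ↥F) ∈ (P : Subgroup ↥F) := (hmemP _).mpr hx.2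
      have h2 := (Subgroup.mem_normalizer_iff.mp hn ⟨x, hx.1⟩).mp h1
      exact (hmemP _).mp h2
    · -- generation
      rw [eq_top_iff]
      intro y _
      set K : Subgroup G := (Subgroup.normalClosure ((J.subgroupOf F : Subgroup ↥F) : Set ↥F)).map
        F.subtype with hK
      have hle : Subgroup.closure {x : G | ∃ f ∈ F, ∃ j ∈ J, x = f * j * f⁻¹} ≤ K := by
        rw [Subgroup.closure_le]
        rintro x ⟨f, hf, j, hj, rfl⟩
        have hj' : (⟨j, hJF hj⟩ : ↥F) ∈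
            Subgroup.normalClosure ((J.subgroupOf F : Subgroup ↥F) : Set ↥F) :=
          Subgroup.subset_normalClosure (by
            show (⟨j, hJF hj⟩ : ↥F) ∈ J.subgroupOf F
            rw [Subgroup.mem_subgroupOf]; exact hj)
        have h3 := (Subgroup.normalClosure_normal (s := ((J.subgroupOf F : Subgroup ↥F) : Set ↥F))).conj_mem
          _ hj' ⟨f, hf⟩
        exact ⟨_, h3, rfl⟩
      obtain ⟨y', hy', hyy⟩ := hle (hgen y.2)
      have : y' = y := Subtype.ext hyy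
      rw [← this]
      exact hy'
    · rw [hmemP]
      exact hzP.2
    · intro f
      rw [Subgroup.mem_subgroupOf]
      exact hz f f.2
  rw [Subgroup.mem_subgroupOf] at hres
  exact hres

end Cfsg.Agent.Helper17.Baum
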