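import Mathlib
import Cfsg.Agent.Lib.Helper17.BaumDefs
import Cfsg.Agent.Lib.Baum.C9A
import Cfsg.Agent.Lib.Baum.C9B
import Cfsg.Agent.Lib.Baum.TRG
import Cfsg.Agent.Lib.Baum.C4
import Cfsg.Agent.Lib.Baum.TH

/-! S2768/S2769/S2770 farm-out, piece BM-C9C (see plans/S2768_plan.md). -/

set_option autoImplicit false

namespace Cfsg.Agent.Helper17.Baum

universe u v

variable {G : Type u} [Group G]

/-- `J(S)` centralizes `Z(J(S))`. -/
theorem c9c_JJ_le_cent (S : Subgroup G) : JJ S ≤ Subgroup.centralizer (YY S : Set G) := by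
  intro j hj
  rw [Subgroup.mem_centralizer_iff]
  intro y hy
  have hy' : y ∈ YY S := hy
  have hyc : y ∈ Subgroup.centralizer (JJ S : Set G) := hy'.2
  rw [Subgroup.mem_centralizer_iff] at hyc
  exact (hyc j hj).symm

variable [Finite G] {p q : ℕ} [Fact p.Prime] {S Q M V : Subgroup G}

theorem core_U_le (h : HypR p q S Q M) (hV : HypV p q S Q V) (hE : ∃ E ∈ AbMax S, ¬ E ≤ Q) :
    Subgroup.normalClosure (JJ S : Set G) ⊓ Q ≤ Subgroup.centralizer (YY S : Set G) := by
  obtain ⟨E, hEmem, hEQ⟩ := hE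
  have hE' : ∃ E ∈ AbMax S, ¬ E ≤ Q := ⟨E, hEmem, hEQ⟩
  obtain ⟨P, hP⟩ := h.syl
  -- notation
  have hFn : (Subgroup.normalClosure (JJ S : Set G)).Normal := Subgroup.normalClosure_normal
  have hQn : Q.Normal := h.Qn
  have hUn : (Subgroup.normalClosure (JJ S : Set G) ⊓ Q).Normal := Subgroup.normal_inf_normal _ _
  have hDn : (⁅Subgroup.normalClosure (JJ S : Set G) ⊓ Q,
      Subgroup.normalClosure (JJ S : Set G)⁆).Normal := Subgroup.commutator_normal _ _
  have hcoreF := core_F h hV hEmem hEQ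
  have hgen0 := hcoreF.2.2.2
  have hJJF : JJ S ≤ Subgroup.normalClosure (JJ S : Set G) := Subgroup.le_normalClosure
  have hJJS : JJ S ≤ S := JJ_le S
  have hJJB : JJ S ≤ BB S := by
    intro j hj
    exact ⟨hJJS hj, c9c_JJ_le_cent S hj⟩
  intro z hz
  have hmain : z ∈ Subgroup.normalClosure (JJ S : Set G) ⊓ BB S := by
    refine trg_main (p := p) P (Subgroup.normalClosure (JJ S : Set G))
      (⁅Subgroup.normalClosure (JJ S : Set G) ⊓ Q, Subgroup.normalClosure (JJ S : Set G)⁆)
      (Subgroup.normalClosure (JJ S : Set G) ⊓ BB S) hFn ?_ ?_ ?_ ?_ ?_ ?_ z ?_ ?_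
    · -- `D` is normalized by `F`
      intro f _ d hd
      exact hDn.conj_mem d hd f
    · -- `D ≤ J`
      intro d hd
      have hdU : d ∈ Subgroup.normalClosure (JJ S : Set G) ⊓ Q :=
        Subgroup.commutator_le_left _ _ hd
      have hdC : d ∈ Subgroup.centralizer (YY S : Set G) := by
        have h1 := core_UF h hV hE' hd
        exact Subgroup.centralizer_le (Subgroup.subset_normalClosure) h1
      exact ⟨hdU.1, ⟨h.QS hdU.2, hdC⟩⟩
    · -- `J ≤ F ⊓ S`
      intro j hj
      rw [hP]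
      exact ⟨hj.1, hj.2.1⟩
    · -- commutators
      intro x hx y hy
      rw [hP] at hx hy
      exact core_P_comm h hV hE' x hx y hy
    · -- normalizer condition
      intro n _ hn j hj
      rw [hP] at hn
      exact core_P_norm S n hn j hj
    · -- generation
      refine le_trans hgen0 ?_
      apply Subgroup.closure_mono
      rintro x ⟨f, hf, j, hj, rfl⟩
      exact ⟨f, hf, j, ⟨hJJF hj, hJJB hj⟩, rfl⟩
    · -- `z ∈ F ⊓ S`
      rw [hP]
      exact ⟨hz.1, h.QS hz.2⟩
    · -- commutators of `z` with `F`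
      intro f hf
      have h1 := Subgroup.commutator_mem_commutator
        (H₁ := Subgroup.normalClosure (JJ S : Set G))
        (H₂ := Subgroup.normalClosure (JJ S : Set G) ⊓ Q) hf hz
      rw [Subgroup.commutator_comm] at h1
      rw [commutatorElement_def] at h1
      exact h1
  exact hmain.2.2

end Cfsg.Agent.Helper17.Baum
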