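import Mathlib
import Cfsg.Agent.Lib.Helper17.BaumDefs
import Cfsg.Agent.Lib.Baum.C9C

/-! S2768/S2769/S2770 farm-out, piece BM-C10 (see plans/S2768_plan.md): the Baumann subgroup is a Sylow subgroup of its
normal closure. -/

set_option autoImplicit false

namespace Cfsg.Agent.Helper17.Baum

universe u v

variable {G : Type u} [Group G]

/-- the centralizer of a normal subgroup is normal (elementwise form). -/
theorem c10_centralizer_normal (W : Subgroup G) [hW : W.Normal] :
    (Subgroup.centralizer (W : Set G)).Normal := by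
  constructor
  intro n hn g
  rw [Subgroup.mem_centralizer_iff] at hn ⊢
  intro w hw
  have h1 : g⁻¹ * w * g ∈ W := by
    have := hW.conj_mem w hw g⁻¹
    rwa [inv_inv] at this
  have h2 := hn (g⁻¹ * w * g) h1
  -- `(g⁻¹ w g) n = n (g⁻¹ w g)`
  calc w * (g * n * g⁻¹) = g * ((g⁻¹ * w * g) * n) * g⁻¹ := by group
    _ = g * (n * (g⁻¹ * w * g)) * g⁻¹ := by rw [h2]
    _ = g * n * g⁻¹ * w := by group

/-- elements of a sup with a normal right factor. -/
theorem c10_mem_sup_normal {H N : Subgroup G} [N.Normal] {x : G} (hx : x ∈ H ⊔ N) :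
    ∃ a ∈ H, ∃ b ∈ N, x = a * b := by
  have h1 : (x : G) ∈ ((H ⊔ N : Subgroup G) : Set G) := hx
  rw [Subgroup.mul_normal] at h1
  obtain ⟨a, ha, b, hb, hab⟩ := Set.mem_mul.1 h1
  exact ⟨a, ha, b, hb, hab.symm⟩

variable [Finite G] {p q : ℕ} [Fact p.Prime] {S Q M V : Subgroup G}

theorem core_2768 (h : HypR p q S Q M) (hV : HypV p q S Q V) (hE : ∃ E ∈ AbMax S, ¬ E ≤ Q) :
    Subgroup.normalClosure (BB S : Set G) ⊓ S = BB S := by
  obtain ⟨E, hEmem, hEQ⟩ := hE
  have hE' : ∃ E ∈ AbMax S, ¬ E ≤ Q := ⟨E, hEmem, hEQ⟩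
  haveI := h.Qn
  haveI := hV.Vn
  set F : Subgroup G := Subgroup.normalClosure (JJ S : Set G) with hF
  set W : Subgroup G := Subgroup.normalClosure (YY S : Set G) with hW
  haveI hFn : F.Normal := Subgroup.normalClosure_normal
  haveI hWn : W.Normal := Subgroup.normalClosure_normal
  haveI hCn : (Subgroup.centralizer (W : Set G)).Normal := c10_centralizer_normal W
  set R : Subgroup G := Q ⊓ Subgroup.centralizer (W : Set G) with hR
  haveI hRn : R.Normal := Subgroup.normal_inf_normal _ _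
  haveI hFRn : (F ⊔ R).Normal := Subgroup.sup_normal F R
  -- basic facts
  have hES : E ⊔ Q = S := (core_E h hV hEmem hEQ).1
  have hEJ : E ≤ JJ S := le_sSup hEmem
  have hJF : JJ S ≤ F := Subgroup.le_normalClosure
  have hYW : YY S ≤ W := Subgroup.le_normalClosure
  have hEcY : E ≤ Subgroup.centralizer (YY S : Set G) := by
    intro e he
    rw [Subgroup.mem_centralizer_iff]
    intro y hy
    have hy2 : y ∈ Subgroup.centralizer (JJ S : Set G) := hy.2
    rw [Subgroup.mem_centralizer_iff] at hy2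
    exact (hy2 e (hEJ he)).symm
  have hWle : W ≤ YY S ⊔ V := (core_W h hV hE').1
  have hUle : F ⊓ Q ≤ Subgroup.centralizer (YY S : Set G) := core_U_le h hV hE'
  have hF4 := (core_F h hV hEmem hEQ).2.2.1
  -- `Q ⊓ C(Y) ≤ R`
  have hQY : Q ⊓ Subgroup.centralizer (YY S : Set G) ≤ R := by
    rintro x ⟨hxQ, hxY⟩
    refine ⟨hxQ, ?_⟩
    have hle : YY S ⊔ V ≤ Subgroup.centralizer ({x} : Set G) := by
      apply sup_le
      · intro y hy
        rw [Subgroup.mem_centralizer_iff]
        intro z hz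
        rw [Set.mem_singleton_iff] at hz
        subst hz
        have hxY' : z ∈ Subgroup.centralizer (YY S : Set G) := hxY
        rw [Subgroup.mem_centralizer_iff] at hxY'
        exact (hxY' y hy).symm
      · intro v hv
        rw [Subgroup.mem_centralizer_iff]
        intro z hz
        rw [Set.mem_singleton_iff] at hz
        subst hz
        have := hV.VcQ hv
        rw [Subgroup.mem_centralizer_iff] at this
        exact this z hxQ
    show x ∈ Subgroup.centralizer (W : Set G)
    rw [Subgroup.mem_centralizer_iff]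
    intro w hw
    have := hle (hWle hw)
    rw [Subgroup.mem_centralizer_iff] at this
    exact (this x (Set.mem_singleton x)).symm
  -- `B ≤ F ⊔ R`
  have hBFR : BB S ≤ F ⊔ R := by
    rintro b ⟨hbS, hbY⟩
    have hb' : b ∈ E ⊔ Q := by rw [hES]; exact hbS
    obtain ⟨e, he, x, hx, rfl⟩ := c10_mem_sup_normal hb'
    have hxY : x ∈ Subgroup.centralizer (YY S : Set G) := by
      have h1 : e⁻¹ * (e * x) ∈ Subgroup.centralizer (YY S : Set G) :=
        Subgroup.mul_mem _ (Subgroup.inv_mem _ (hEcY he)) hbY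
      rwa [inv_mul_cancel_left] at h1
    exact Subgroup.mul_mem _ (Subgroup.mem_sup_left (hJF (hEJ he)))
      (Subgroup.mem_sup_right (hQY ⟨hx, hxY⟩))
  apply le_antisymm
  · -- `⊆`
    rintro g ⟨hgN, hgS⟩
    have hgFR : g ∈ F ⊔ R := (Subgroup.normalClosure_le_normal hBFR) hgN
    obtain ⟨f, hf, r, hr, rfl⟩ := c10_mem_sup_normal hgFR
    have hrQ : r ∈ Q := hr.1
    have hrS : r ∈ S := h.QS hrQ
    have hfS : f ∈ S := by
      have := Subgroup.mul_mem _ hgS (Subgroup.inv_mem _ hrS)
      rwa [mul_inv_cancel_right] at this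
    obtain ⟨e, he, u, hu, rfl⟩ := hF4 f ⟨hf, hfS⟩
    have heB : e ∈ BB S := ⟨by rw [← hES]; exact Subgroup.mem_sup_left he, hEcY he⟩
    have huB : u ∈ BB S := ⟨h.QS hu.2, hUle hu⟩
    have hrB : r ∈ BB S := by
      refine ⟨hrS, ?_⟩
      exact Subgroup.centralizer_le (show (YY S : Set G) ⊆ (W : Set G) from hYW) hr.2
    exact Subgroup.mul_mem _ (Subgroup.mul_mem _ heB huB) hrB
  · exact le_inf Subgroup.le_normalClosure (inf_le_left)

end Cfsg.Agent.Helper17.Baum
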