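import Mathlib
import Cfsg.Agent.Lib.Helper17.BaumDefs
import Cfsg.Prelude.Def_PLocal
import Cfsg.Agent.Lib.Baum.C3
import Cfsg.Agent.Lib.Baum.C4

/-! S2768/S2769/S2770 farm-out, piece BM-C7 (see plans/S2768_plan.md). -/

set_option autoImplicit false

namespace Cfsg.Agent.Helper17.Baum

open scoped commutatorElement

universe u v

variable {G : Type u} [Group G]

/-- `Z(S) ≤ Z(Q)` under `HypR`. -/
theorem c7_ZZ_le {p q : ℕ} {S Q M : Subgroup G} (h : HypR p q S Q M) : ZZ S ≤ ZZ Q := by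
  intro w hw
  have hwS : w ∈ S := hw.1
  have hwc : w ∈ Subgroup.centralizer (S : Set G) := hw.2
  have hwcQ : w ∈ Subgroup.centralizer (Q : Set G) := by
    rw [Subgroup.mem_centralizer_iff] at hwc ⊢
    intro x hx
    exact hwc x (h.QS hx)
  exact ⟨h.cQ hwcQ, hwcQ⟩

variable [Finite G] {p q : ℕ} [Fact p.Prime] {S Q M V : Subgroup G}

theorem core_2770 (h : HypR p q S Q M) (hV : HypV p q S Q V) (hE : ∃ E ∈ AbMax S, ¬ E ≤ Q) :
    Cfsg.powerClosure p 1 (ZZ S) ≤ Subgroup.center G := by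
  obtain ⟨E, hEm, hEQ⟩ := hE
  have hFQ : Subgroup.normalClosure (JJ S : Set G) ⊔ Q = ⊤ := (core_F h hV hEm hEQ).1
  have hcomm := core_comm_ZQ h hV ⟨E, hEm, hEQ⟩
  unfold Cfsg.powerClosure
  rw [Subgroup.closure_le]
  rintro y ⟨w, hw, rfl⟩
  rw [pow_one]
  have hwQ : w ∈ ZZ Q := c7_ZZ_le h hw
  have hwq : w ∈ Q := hwQ.1
  have hwc : w ∈ Subgroup.centralizer (Q : Set G) := hwQ.2
  -- the centralizer of `w ^ p`
  have hF : Subgroup.normalClosure (JJ S : Set G) ≤ Subgroup.centralizer ({w ^ p} : Set G) := by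
    intro f hf
    have hc : f * w * f⁻¹ * w⁻¹ ∈ V := by
      have h1 : ⁅w, f⁆ ∈ ⁅ZZ Q, Subgroup.normalClosure (JJ S : Set G)⁆ :=
        Subgroup.commutator_mem_commutator hwQ hf
      have h2 := V.inv_mem (hcomm h1)
      have h3 : (⁅w, f⁆)⁻¹ = f * w * f⁻¹ * w⁻¹ := by
        rw [commutatorElement_def]
        group
      rw [h3] at h2
      exact h2
    set c := f * w * f⁻¹ * w⁻¹ with hcdef
    have hcw : c * w = w * c := by
      have := (Subgroup.mem_centralizer_iff.1 (hV.VcQ hc)) w hwq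
      exact this.symm
    have hcp : c ^ p = 1 := hV.Vexp c hc
    have hconj : f * w * f⁻¹ = c * w := by
      rw [hcdef]
      group
    have hpow : f * w ^ p * f⁻¹ = w ^ p := by
      rw [← conj_pow, hconj, (Commute.mul_pow (show Commute c w from hcw) p), hcp, one_mul]
    rw [Subgroup.mem_centralizer_iff]
    intro z hz
    rw [Set.mem_singleton_iff] at hz
    rw [hz]
    calc w ^ p * f = (f * w ^ p * f⁻¹) * f := by rw [hpow]
      _ = f * w ^ p := by group
  have hQ : Q ≤ Subgroup.centralizer ({w ^ p} : Set G) := by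
    intro x hx
    rw [Subgroup.mem_centralizer_iff]
    intro z hz
    rw [Set.mem_singleton_iff] at hz
    rw [hz]
    have h1 : x * w = w * x := (Subgroup.mem_centralizer_iff.1 hwc) x hx
    exact ((Commute.pow_right (show Commute x w from h1) p).eq).symm
  have htop : (⊤ : Subgroup G) ≤ Subgroup.centralizer ({w ^ p} : Set G) := by
    rw [← hFQ]
    exact sup_le hF hQ
  show w ^ p ∈ Subgroup.center G
  rw [Subgroup.mem_center_iff]
  intro g
  have := (Subgroup.mem_centralizer_iff.1 (htop (Subgroup.mem_top g))) (w ^ p) rfl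
  exact this.symm

end Cfsg.Agent.Helper17.Baum
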