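import Mathlib
import Cfsg.Agent.Lib.Helper17.BaumDefs
import Cfsg.Agent.Lib.Baum.C6
import Cfsg.Agent.Lib.Baum.S3
import Cfsg.Agent.Lib.Baum.TH
import Cfsg.Agent.Lib.Baum.G1
import Cfsg.Agent.Lib.Baum.C1
import Cfsg.Agent.Lib.Baum.C3
import Cfsg.Agent.Lib.Baum.C4
import Cfsg.Agent.Lib.Baum.C5

/-! S2768/S2769/S2770 farm-out, piece BM-C8 (see plans/S2768_plan.md). -/

set_option autoImplicit false

namespace Cfsg.Agent.Helper17.Baum

open scoped commutatorElement

universe u v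

variable {G : Type u} [Group G]

variable [Finite G] {p q : ℕ} [Fact p.Prime] {S Q M V : Subgroup G}

/-- `[Y, S] ≤ [W, Q]`, `W` the normal closure of `Y = Z(J(S))`. -/
theorem c8_comm_le (h : HypR p q S Q M) (hV : HypV p q S Q V) {E : Subgroup G} (hEm : E ∈ AbMax S)
    (hEQ : ¬ E ≤ Q) : ⁅YY S, S⁆ ≤ ⁅Subgroup.normalClosure (YY S : Set G), Q⁆ := by
  have : Q.Normal := h.Qn
  have hES : E ⊔ Q = S := (core_E h hV hEm hEQ).1
  have hYE : YY S ≤ E := YY_le_abmax hEm
  have hEc : Comm E := hEm.2.1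
  rw [Subgroup.commutator_le]
  intro y hy s hs
  rw [← hES] at hs
  have hs' : s ∈ ((E ⊔ Q : Subgroup G) : Set G) := hs
  rw [Subgroup.mul_normal] at hs'
  obtain ⟨e, he, x, hx, rfl⟩ := Set.mem_mul.1 hs'
  have hye : y * e = e * y := hEc y (hYE hy) e he
  have h1 : ⁅y, e * x⁆ = e * ⁅y, x⁆ * e⁻¹ := by
    rw [commutatorElement_def, commutatorElement_def]
    have : y * (e * x) * y⁻¹ * (e * x)⁻¹ = (y * e) * x * y⁻¹ * x⁻¹ * e⁻¹ := by group
    rw [this, hye]
    group
  rw [h1]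
  have hn : (⁅Subgroup.normalClosure (YY S : Set G), Q⁆).Normal := Subgroup.commutator_normal _ _
  apply hn.conj_mem
  exact Subgroup.commutator_mem_commutator (Subgroup.subset_normalClosure hy) hx

theorem core_2769 (h : HypR p q S Q M) (hV : HypV p q S Q V) (hE : ∃ E ∈ AbMax S, ¬ E ≤ Q) :
    ⁅YY S, S⁆ ⊓ ZZ S ≤ Subgroup.center G := by
  obtain ⟨E, hEm, hEQ⟩ := hE
  have hE' : ∃ E ∈ AbMax S, ¬ E ≤ Q := ⟨E, hEm, hEQ⟩
  have : Q.Normal := h.Qn
  have : V.Normal := hV.Vn
  have hFS : Subgroup.normalClosure (JJ S : Set G) ⊔ S = ⊤ := (core_F h hV hEm hEQ).2.1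
  have hWU := core_WU h hV hE'
  have hWYQ : Subgroup.normalClosure (YY S : Set G) ≤ YY Q := (core_W h hV hE').2
  have hYQF := core_comm_YQ h hV hE'
  -- three subgroups
  have h1 : ⁅⁅Q, Subgroup.normalClosure (JJ S : Set G)⁆, Subgroup.normalClosure (YY S : Set G)⁆ ≤
      Subgroup.center G := by
    have ha : ⁅Q, Subgroup.normalClosure (JJ S : Set G)⁆ ≤
        Subgroup.normalClosure (JJ S : Set G) ⊓ Q := by
      rw [inf_comm]
      exact Subgroup.commutator_le_inf _ _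
    calc ⁅⁅Q, Subgroup.normalClosure (JJ S : Set G)⁆, Subgroup.normalClosure (YY S : Set G)⁆
        ≤ ⁅Subgroup.normalClosure (JJ S : Set G) ⊓ Q, Subgroup.normalClosure (YY S : Set G)⁆ :=
          Subgroup.commutator_mono ha le_rfl
      _ = ⁅Subgroup.normalClosure (YY S : Set G), Subgroup.normalClosure (JJ S : Set G) ⊓ Q⁆ :=
          Subgroup.commutator_comm _ _
      _ ≤ Subgroup.center G := hWU
  have h2 : ⁅⁅Subgroup.normalClosure (JJ S : Set G), Subgroup.normalClosure (YY S : Set G)⁆, Q⁆ ≤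
      Subgroup.center G := by
    have ha : ⁅Subgroup.normalClosure (JJ S : Set G), Subgroup.normalClosure (YY S : Set G)⁆ ≤ V := by
      rw [Subgroup.commutator_comm]
      exact (Subgroup.commutator_mono hWYQ le_rfl).trans hYQF
    have hb : ⁅V, Q⁆ = ⊥ := by
      rw [Subgroup.commutator_eq_bot_iff_le_centralizer]
      exact hV.VcQ
    calc ⁅⁅Subgroup.normalClosure (JJ S : Set G), Subgroup.normalClosure (YY S : Set G)⁆, Q⁆
        ≤ ⁅V, Q⁆ := Subgroup.commutator_mono ha le_rfl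
      _ = ⊥ := hb
      _ ≤ Subgroup.center G := bot_le
  have h3 : ⁅⁅Subgroup.normalClosure (YY S : Set G), Q⁆, Subgroup.normalClosure (JJ S : Set G)⁆ ≤
      Subgroup.center G := three_subgroups_mod (inferInstance : (Subgroup.center G).Normal) h1 h2
  have hle := c8_comm_le h hV hEm hEQ
  intro t ht
  have htWQ : t ∈ ⁅Subgroup.normalClosure (YY S : Set G), Q⁆ := hle ht.1
  have htZ : t ∈ ZZ S := ht.2
  apply central_of_comm_central (JJ_le S) hFS
  · intro s hs
    exact (Subgroup.mem_centralizer_iff.1 htZ.2) s hs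
  · intro f hf
    have h4 : ⁅t, f⁆ ∈ Subgroup.center G := h3 (Subgroup.commutator_mem_commutator htWQ hf)
    have h5 := (Subgroup.center G).inv_mem h4
    rw [commutatorElement_inv, commutatorElement_def] at h5
    exact h5

end Cfsg.Agent.Helper17.Baum
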