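import Mathlib
import Cfsg.Agent.Lib.Helper17.BaumDefs
import Cfsg.Agent.Lib.Baum.TH
import Cfsg.Agent.Lib.Baum.TH3
import Cfsg.Agent.Lib.Baum.A

/-! S2768/S2769/S2770 farm-out, piece BM-CI (see plans/S2768_plan.md): the case where every abelian subgroup of largest
order of `S` lies in `Q`. -/

set_option autoImplicit false

namespace Cfsg.Agent.Helper17.Baum

universe u v

variable {G : Type u} [Group G]

/-- the centralizer of a normal subgroup is normal. -/
theorem ci_centralizer_normal (W : Subgroup G) (hW : W.Normal) :
    (Subgroup.centralizer (W : Set G)).Normal := by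
  constructor
  intro n hn g
  rw [Subgroup.mem_centralizer_iff] at hn ⊢
  intro w hw
  have h1 : g⁻¹ * w * g ∈ W := by
    have := hW.conj_mem w hw g⁻¹
    rwa [inv_inv] at this
  have h2 := hn (g⁻¹ * w * g) h1
  calc w * (g * n * g⁻¹) = g * ((g⁻¹ * w * g) * n) * g⁻¹ := by group
    _ = g * (n * (g⁻¹ * w * g)) * g⁻¹ := by rw [h2]
    _ = g * n * g⁻¹ * w := by group

variable [Finite G] {p q : ℕ} [Fact p.Prime] {S Q M V : Subgroup G}

theorem caseI (h : HypR p q S Q M) (hI : ∀ A ∈ AbMax S, A ≤ Q) :
    Subgroup.normalClosure (BB S : Set G) ⊓ S = BB S ∧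
      ((BB S).Normal ∨ ZZ S ≤ Subgroup.center G) := by
  have hJQ : JJ S ≤ Q := sSup_le hI
  have hAb : AbMax Q = AbMax S := abmax_eq_of_JJ_le h.QS hJQ
  have hJJ : JJ Q = JJ S := by unfold JJ; rw [hAb]
  have hYY : YY Q = YY S := by unfold YY; rw [hJJ]
  have hYn : (YY S).Normal := by rw [← hYY]; exact YY_normal h.Qn
  have hNn : (Subgroup.centralizer (YY S : Set G)).Normal := ci_centralizer_normal _ hYn
  have hBN : BB S ≤ Subgroup.centralizer (YY S : Set G) := inf_le_right
  constructor
  · apply le_antisymm
    · rintro g ⟨hgN, hgS⟩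
      haveI := hNn
      exact ⟨hgS, (Subgroup.normalClosure_le_normal hBN) hgN⟩
    · exact le_inf Subgroup.le_normalClosure inf_le_left
  · rcases hypR_dich h hNn with hNM | hNS
    · left
      have h1 : Subgroup.centralizer (YY S : Set G) ⊓ S ≤ Q := hypR_inf_le h hNn hNM
      have h2 : BB S = Subgroup.centralizer (YY S : Set G) ⊓ Q := by
        apply le_antisymm
        · intro b hb
          exact ⟨hb.2, h1 ⟨hb.2, hb.1⟩⟩
        · intro b hb
          exact ⟨h.QS hb.2, hb.1⟩
      rw [h2]
      haveI := hNn
      haveI := h.Qn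
      exact Subgroup.normal_inf_normal _ _
    · right
      intro z hz
      have hzY : z ∈ YY S := ZZ_le_YY S hz
      have hzS : z ∈ Subgroup.centralizer (S : Set G) := hz.2
      have hle : Subgroup.centralizer (YY S : Set G) ⊔ S ≤ Subgroup.centralizer ({z} : Set G) := by
        apply sup_le
        · intro n hn
          rw [Subgroup.mem_centralizer_iff] at hn ⊢
          intro y hy
          rw [Set.mem_singleton_iff] at hy
          subst hy
          exact hn y hzY
        · intro s hs
          rw [Subgroup.mem_centralizer_iff] at hzS ⊢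
          intro y hy
          rw [Set.mem_singleton_iff] at hy
          subst hy
          exact (hzS s hs).symm
      rw [hNS] at hle
      rw [Subgroup.mem_center_iff]
      intro g
      have := hle (Subgroup.mem_top g)
      rw [Subgroup.mem_centralizer_iff] at this
      exact (this z (Set.mem_singleton z)).symm
end Cfsg.Agent.Helper17.Baum
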