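import Mathlib
import Cfsg.Agent.Lib.Helper17.BaumDefs

/-! S2768/S2769/S2770 farm-out, piece BM-GS (see plans/S2768_plan.md): a subgroup containing a Sylow
`p`-subgroup and all `p'`-elements is the whole group. -/

set_option autoImplicit false

namespace Cfsg.Agent.Helper17.Baum

universe u v

variable {G : Type u} [Group G]

/-- a subgroup containing a Sylow `p`-subgroup and all `p'`-elements is everything. -/
theorem eq_top_of_sylow_le_of_coprime [Finite G] {p : ℕ} [Fact p.Prime] (S : Sylow p G)
    {D : Subgroup G} (hS : (S : Subgroup G) ≤ D) (hD : ∀ x : G, (orderOf x).Coprime p → x ∈ D) :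
    D = ⊤ := by
  rw [← Subgroup.index_eq_one, Nat.eq_one_iff_not_exists_prime_dvd]
  intro r hr hrD
  have hp : p.Prime := Fact.out
  by_cases hrp : r = p
  · subst hrp
    exact Sylow.not_dvd_index S (dvd_trans hrD (Subgroup.index_dvd_of_le hS))
  · have : Fact r.Prime := ⟨hr⟩
    obtain ⟨R⟩ : Nonempty (Sylow r G) := inferInstance
    have hRD : (R : Subgroup G) ≤ D := by
      intro x hx
      apply hD
      obtain ⟨k, hk⟩ := (IsPGroup.iff_orderOf.1 R.isPGroup') ⟨x, hx⟩
      have hk' : orderOf x = r ^ k := by
        rw [← hk]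
        exact (Subgroup.orderOf_mk x hx).symm
      rw [hk']
      exact Nat.Coprime.pow_left k ((Nat.coprime_primes hr hp).2 hrp)
    exact Sylow.not_dvd_index R (dvd_trans hrD (Subgroup.index_dvd_of_le hRD))

end Cfsg.Agent.Helper17.Baum
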