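import Mathlib
import Cfsg.Agent.Lib.Helper17.BaumDefs
import Cfsg.Prelude.Def_Solvable
import Cfsg.Agent.Lib.Baum.A

/-! S2768/S2769/S2770 farm-out, piece BM-H1 (see plans/S2768_plan.md). -/

set_option autoImplicit false

namespace Cfsg.Agent.Helper17.Baum

universe u v

variable {G : Type u} [Group G]

variable [Finite G] {p q : ℕ} [Fact p.Prime] {L : Type v} [Group L]

theorem h1_normal_pgroup_le_sylow (N : Subgroup G) (hN : N.Normal) (hp : IsPGroup p N)
    (Q : Sylow p G) : N ≤ Q := by
  obtain ⟨R, hR⟩ := hp.exists_le_sylow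
  obtain ⟨g, hg⟩ := MulAction.exists_smul_eq G R Q
  intro n hn
  have h1 : g⁻¹ * n * g ∈ N := by
    have := hN.conj_mem n hn g⁻¹
    simpa using this
  have h2 : g⁻¹ * n * g ∈ (R : Subgroup G) := hR h1
  have h3 : g * (g⁻¹ * n * g) * g⁻¹ ∈ ((g • R : Sylow p G) : Subgroup G) := by
    rw [Sylow.coe_subgroup_smul]
    exact ⟨g⁻¹ * n * g, h2, rfl⟩
  rw [hg] at h3
  have h4 : g * (g⁻¹ * n * g) * g⁻¹ = n := by group
  rw [h4] at h3
  exact h3

theorem h1_pCore_le_sylow (Q : Sylow p G) : Cfsg.pCore p G ≤ Q := by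
  unfold Cfsg.pCore
  apply sSup_le
  rintro N ⟨hN, hp⟩
  exact h1_normal_pgroup_le_sylow N hN hp Q

theorem h1_pCore_normal : (Cfsg.pCore p G).Normal := by
  unfold Cfsg.pCore
  apply Subgroup.sSup_normal
  rintro N ⟨hN, _⟩
  exact hN

/-- `K = ker π ≤ M` and `K ∩ S = O_p(G)`. -/
theorem hb_ker (S : Sylow p G) {M : Subgroup G} (hMco : IsCoatom M) (hSM : (S : Subgroup G) ≤ M)
    (huniq : ∀ M' : Subgroup G, IsCoatom M' → (S : Subgroup G) ≤ M' → M' = M)
    (hL : RankOne p q L) (π : G →* L) (hπ : Function.Surjective π) :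
    π.ker ≤ M ∧ π.ker ⊓ (S : Subgroup G) = Cfsg.pCore p G := by
  have hkn : π.ker.Normal := inferInstance
  have hkM : π.ker ≤ M := by
    rcases dich_of_uniq hSM huniq hkn with h | h
    · exact h
    · exfalso
      -- the image of `S` is everything
      have hmap : (S : Subgroup G).map π = ⊤ := by
        have h1 : (π.ker ⊔ (S : Subgroup G)).map π = ⊤ := by
          rw [h, ← MonoidHom.range_eq_map, MonoidHom.range_eq_top]
          exact hπ
        rw [Subgroup.map_sup] at h1
        have h2 : π.ker.map π = ⊥ := by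
          rw [eq_bot_iff]
          rintro _ ⟨x, hx, rfl⟩
          rw [Subgroup.mem_bot]
          exact hx
        rw [h2, bot_sup_eq] at h1
        exact h1
      have hpg : IsPGroup p ((⊤ : Subgroup L)) := by
        rw [← hmap]
        exact S.isPGroup'.map π
      have htop : (⊤ : Subgroup L) = ⊥ := hL.core ⊤ inferInstance hpg
      have P : Sylow p L := default
      have hc := hL.card_syl P
      have hPbot : (P : Subgroup L) = ⊥ := by
        rw [eq_bot_iff, ← htop]
        exact le_top
      rw [hPbot, Subgroup.card_bot] at hc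
      have := hL.q1
      omega
  refine ⟨hkM, ?_⟩
  apply le_antisymm
  · have hn : (π.ker ⊓ (S : Subgroup G)).Normal := inf_normal_of_uniq S hMco hSM huniq hkn hkM
    have hp' : IsPGroup p (π.ker ⊓ (S : Subgroup G) : Subgroup G) :=
      S.isPGroup'.to_le inf_le_right
    exact le_sSup ⟨hn, hp'⟩
  · apply le_inf
    · -- the image of `O_p(G)` is a normal `p`-subgroup of `L`
      have hn : ((Cfsg.pCore p G).map π).Normal :=
        Subgroup.Normal.map h1_pCore_normal π hπ
      have hpc : IsPGroup p (Cfsg.pCore p G) := S.isPGroup'.to_le (h1_pCore_le_sylow S)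
      have hp' : IsPGroup p ((Cfsg.pCore p G).map π) := hpc.map π
      have hbot := hL.core _ hn hp'
      intro x hx
      rw [MonoidHom.mem_ker]
      have : π x ∈ (Cfsg.pCore p G).map π := Subgroup.mem_map_of_mem π hx
      rw [hbot, Subgroup.mem_bot] at this
      exact this
    · exact h1_pCore_le_sylow S

end Cfsg.Agent.Helper17.Baum
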