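import Mathlib
import Cfsg.Agent.Lib.Helper17.BaumDefs
import Cfsg.Prelude.Def_Solvable

/-! S2768/S2769/S2770 farm-out, piece BM-H2 (see plans/S2768_plan.md). -/

set_option autoImplicit false

namespace Cfsg.Agent.Helper17.Baum

universe u v

variable {G : Type u} [Group G]

variable [Finite G] {p q : ℕ} [Fact p.Prime] {L : Type v} [Group L]

theorem hb_card (S : Sylow p G) (hL : RankOne p q L) (π : G →* L) (hπ : Function.Surjective π)
    (hk : π.ker ⊓ (S : Subgroup G) = Cfsg.pCore p G) :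
    Nat.card (S : Subgroup G) = q * Nat.card (Cfsg.pCore p G) ∧
    (∀ x ∈ (S : Subgroup G), x ^ p ∈ Cfsg.pCore p G) ∧
    (∀ x ∈ (S : Subgroup G), ∀ y ∈ (S : Subgroup G), x * y * x⁻¹ * y⁻¹ ∈ Cfsg.pCore p G) := by
  have hP : ((Sylow.mapSurjective hπ S : Sylow p L) : Subgroup L) = (S : Subgroup G).map π :=
    Sylow.coe_mapSurjective hπ S
  have hmem : ∀ x ∈ (S : Subgroup G), π x ∈ ((Sylow.mapSurjective hπ S : Sylow p L) : Subgroup L) := by
    intro x hx
    rw [hP]
    exact Subgroup.mem_map_of_mem π hx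
  refine ⟨?_, ?_, ?_⟩
  · have hq : Nat.card ((S : Subgroup G).map π) = q := by
      rw [← hP]
      exact hL.card_syl _
    have h1 := Subgroup.card_mul_index (π.domRestrict (S : Subgroup G)).ker
    rw [Subgroup.index_ker, MonoidHom.domRestrict_range, hq, MonoidHom.ker_domRestrict] at h1
    have h2 : Nat.card (π.ker.subgroupOf (S : Subgroup G)) = Nat.card (Cfsg.pCore p G) := by
      rw [← hk, ← Subgroup.subgroupOf_map_subtype,
        Subgroup.card_map_of_injective (Subgroup.subtype_injective _)]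
    rw [h2] at h1
    rw [← h1, mul_comm]
  · intro x hx
    rw [← hk]
    refine ⟨?_, Subgroup.pow_mem _ hx p⟩
    show x ^ p ∈ π.ker
    rw [MonoidHom.mem_ker, map_pow]
    exact hL.exp_syl _ _ (hmem x hx)
  · intro x hx y hy
    rw [← hk]
    refine ⟨?_, ?_⟩
    · show x * y * x⁻¹ * y⁻¹ ∈ π.ker
      rw [MonoidHom.mem_ker, map_mul, map_mul, map_mul, map_inv, map_inv]
      have hc := hL.comm_syl _ _ (hmem x hx) _ (hmem y hy)
      rw [hc, mul_inv_cancel_right, mul_inv_cancel]
    · exact Subgroup.mul_mem _ (Subgroup.mul_mem _ (Subgroup.mul_mem _ hx hy)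
        (Subgroup.inv_mem _ hx)) (Subgroup.inv_mem _ hy)

end Cfsg.Agent.Helper17.Baum
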