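import Mathlib
import Cfsg.Agent.Lib.Helper17.BaumDefs
import Cfsg.Prelude.Def_Solvable
import Cfsg.Agent.Lib.Baum.A

/-! S2768/S2769/S2770 farm-out, piece BM-H3 (see plans/S2768_plan.md). -/

set_option autoImplicit false

namespace Cfsg.Agent.Helper17.Baum

universe u v

variable {G : Type u} [Group G]

variable [Finite G] {p q : ℕ} [Fact p.Prime] {L : Type v} [Group L]

theorem hb_nor (S : Sylow p G) {M : Subgroup G} (hSM : (S : Subgroup G) ≤ M)
    (huniq : ∀ M' : Subgroup G, IsCoatom M' → (S : Subgroup G) ≤ M' → M' = M)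
    (hL : RankOne p q L) (π : G →* L) (hπ : Function.Surjective π)
    (hk : π.ker ⊓ (S : Subgroup G) = Cfsg.pCore p G) :
    ∀ R : Subgroup G, R ≤ (S : Subgroup G) → ¬ R ≤ Cfsg.pCore p G →
      Subgroup.normalizer (R : Set G) ≤ M := by
  intro R hRS hRQ
  -- the image of `S` is a Sylow subgroup of `L`
  let P : Sylow p L := S.mapSurjective hπ
  have hPcoe : (P : Subgroup L) = (S : Subgroup G).map π := rfl
  -- the image of `R` is nontrivial
  have hR1 : R.map π ≠ ⊥ := by
    intro h
    apply hRQ
    rw [← hk]
    refine le_inf ?_ hRS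
    intro r hr
    rw [MonoidHom.mem_ker]
    have : π r ∈ R.map π := Subgroup.mem_map_of_mem π hr
    rw [h] at this
    exact Subgroup.mem_bot.1 this
  have hRP : R.map π ≤ (P : Subgroup L) := by
    rw [hPcoe]
    exact Subgroup.map_mono hRS
  have hti := hL.ti P (R.map π) hRP hR1
  -- the subgroup `H`
  have hSH : (S : Subgroup G) ≤
      (Subgroup.normalizer ((P : Subgroup L) : Set L)).comap π := by
    intro s hs
    rw [Subgroup.mem_comap]
    have h1 : π s ∈ (Subgroup.normalizer ((S : Subgroup G) : Set G)).map π :=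
      Subgroup.mem_map_of_mem π (Subgroup.le_normalizer hs)
    exact Subgroup.le_normalizer_map π h1
  have hH : (Subgroup.normalizer ((P : Subgroup L) : Set L)).comap π ≠ ⊤ := by
    intro htop
    have hN : Subgroup.normalizer ((P : Subgroup L) : Set L) = ⊤ := by
      rw [eq_top_iff]
      intro l _
      obtain ⟨g, rfl⟩ := hπ l
      have : g ∈ (Subgroup.normalizer ((P : Subgroup L) : Set L)).comap π := by
        rw [htop]
        exact Subgroup.mem_top g
      exact this
    have hnorm : (P : Subgroup L).Normal := Subgroup.normalizer_eq_top_iff.1 hN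
    have hbot := hL.core (P : Subgroup L) hnorm P.isPGroup'
    have hcard := hL.card_syl P
    rw [hbot, Subgroup.card_bot] at hcard
    have := hL.q1
    omega
  have hHM := le_of_uniq hSM huniq hSH hH
  refine le_trans ?_ hHM
  intro x hx
  rw [Subgroup.mem_comap]
  apply hti
  exact Subgroup.le_normalizer_map π (Subgroup.mem_map_of_mem π hx)

end Cfsg.Agent.Helper17.Baum
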