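import Mathlib
import Cfsg.Agent.Lib.Helper17.BaumDefs
import Cfsg.Prelude.Def_Solvable
import Cfsg.Agent.Lib.Baum.A

/-! S2768/S2769/S2770 farm-out, piece BM-H4 (see plans/S2768_plan.md): proofs by helper19. -/

set_option autoImplicit false

namespace Cfsg.Agent.Helper17.Baum

universe u v

variable {G : Type u} [Group G]

variable [Finite G] {p q : ℕ} [Fact p.Prime] {L : Type v} [Group L]

theorem hb_gen (S : Sylow p G) {M : Subgroup G} (hMco : IsCoatom M) (hSM : (S : Subgroup G) ≤ M)
    (huniq : ∀ M' : Subgroup G, IsCoatom M' → (S : Subgroup G) ≤ M' → M' = M) (hq : 1 < q)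
    (hcard : Nat.card (S : Subgroup G) = q * Nat.card (Cfsg.pCore p G)) :
    Subgroup.normalClosure ((S : Subgroup G) : Set G) = ⊤ := by
  by_contra hne
  have hNn : (Subgroup.normalClosure ((S : Subgroup G) : Set G)).Normal :=
    Subgroup.normalClosure_normal
  have hSN : (S : Subgroup G) ≤ Subgroup.normalClosure ((S : Subgroup G) : Set G) :=
    Subgroup.le_normalClosure
  have hNM : Subgroup.normalClosure ((S : Subgroup G) : Set G) ≤ M :=
    le_of_uniq hSM huniq hSN hne
  have hinf : (Subgroup.normalClosure ((S : Subgroup G) : Set G) ⊓ (S : Subgroup G)).Normal :=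
    inf_normal_of_uniq S hMco hSM huniq hNn hNM
  have heq : Subgroup.normalClosure ((S : Subgroup G) : Set G) ⊓ (S : Subgroup G) = S :=
    inf_eq_right.2 hSN
  rw [heq] at hinf
  have hle : (S : Subgroup G) ≤ Cfsg.pCore p G := le_sSup ⟨hinf, S.isPGroup'⟩
  have hc := Subgroup.card_le_of_le hle
  rw [hcard] at hc
  have hpos : 0 < Nat.card (Cfsg.pCore p G) := Nat.card_pos
  nlinarith

end Cfsg.Agent.Helper17.Baum
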