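import Mathlib
import Cfsg.Agent.Lib.Helper17.BaumDefs

/-! S2768/S2769/S2770 farm-out, piece BM-M1 (see plans/S2768_plan.md): proofs by helper19. -/

set_option autoImplicit false

namespace Cfsg.Agent.Helper17.Baum

universe u v

variable {G : Type u} [Group G]

/-- a non-identity element of `SL₂(F)` fixes at most `|F|` vectors. -/
theorem sl2_fix_card_le (F : Type) [Field F] [Fintype F]
    (g : Matrix.SpecialLinearGroup (Fin 2) F) (hg : g ≠ 1) :
    Nat.card {x : Fin 2 → F // Matrix.mulVec (g : Matrix (Fin 2) (Fin 2) F) x = x} ≤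
      Fintype.card F := by
  classical
  have hA1 : (g : Matrix (Fin 2) (Fin 2) F) ≠ 1 := by
    intro h
    apply hg
    apply Subtype.ext
    rw [h]
    rfl
  -- some entry of `g - 1` is nonzero
  have hex : ∃ i j, ((g : Matrix (Fin 2) (Fin 2) F) - 1) i j ≠ 0 := by
    by_contra hcon
    push Not at hcon
    apply hA1
    have h0 : (g : Matrix (Fin 2) (Fin 2) F) - 1 = 0 := by
      ext i j
      exact hcon i j
    exact sub_eq_zero.1 h0
  obtain ⟨i, j, hij⟩ := hex
  -- fixed vectors satisfy the `i`-th row equation of `g - 1`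
  have hrow : ∀ x : Fin 2 → F, Matrix.mulVec (g : Matrix (Fin 2) (Fin 2) F) x = x →
      ((g : Matrix (Fin 2) (Fin 2) F) - 1) i 0 * x 0 +
        ((g : Matrix (Fin 2) (Fin 2) F) - 1) i 1 * x 1 = 0 := by
    intro x hx
    have h1 : Matrix.mulVec ((g : Matrix (Fin 2) (Fin 2) F) - 1) x = 0 := by
      rw [Matrix.sub_mulVec, hx, Matrix.one_mulVec, sub_self]
    have h2 := congrFun h1 i
    rw [Matrix.mulVec, dotProduct, Fin.sum_univ_two] at h2
    exact h2
  rw [← Nat.card_eq_fintype_card]
  fin_cases j
  · apply Nat.card_le_card_of_injective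
      (fun x : {x : Fin 2 → F // Matrix.mulVec (g : Matrix (Fin 2) (Fin 2) F) x = x} => x.1 1)
    intro x y hxy
    apply Subtype.ext
    have hx := hrow x.1 x.2
    have hy := hrow y.1 y.2
    have hxy' : x.1 1 = y.1 1 := hxy
    have h0 : x.1 0 = y.1 0 := by
      have hm : ((g : Matrix (Fin 2) (Fin 2) F) - 1) i 0 * (x.1 0 - y.1 0) = 0 := by
        rw [hxy'] at hx
        linear_combination hx - hy
      rcases mul_eq_zero.1 hm with h | h
      · exact absurd h hij
      · exact sub_eq_zero.1 h
    funext k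
    fin_cases k
    · exact h0
    · exact hxy'
  · apply Nat.card_le_card_of_injective
      (fun x : {x : Fin 2 → F // Matrix.mulVec (g : Matrix (Fin 2) (Fin 2) F) x = x} => x.1 0)
    intro x y hxy
    apply Subtype.ext
    have hx := hrow x.1 x.2
    have hy := hrow y.1 y.2
    have hxy' : x.1 0 = y.1 0 := hxy
    have h1 : x.1 1 = y.1 1 := by
      have hm : ((g : Matrix (Fin 2) (Fin 2) F) - 1) i 1 * (x.1 1 - y.1 1) = 0 := by
        rw [hxy'] at hx
        linear_combination hx - hy
      rcases mul_eq_zero.1 hm with h | h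
      · exact absurd h hij
      · exact sub_eq_zero.1 h
    funext k
    fin_cases k
    · exact hxy'
    · exact h1

end Cfsg.Agent.Helper17.Baum
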