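import Mathlib
import Cfsg.Agent.Lib.Helper17.BaumDefs
import Cfsg.Agent.Lib.Helper12.SL2Unip

/-! S2768/S2769/S2770 farm-out, piece BM-M2 (see plans/S2768_plan.md). -/

set_option autoImplicit false

namespace Cfsg.Agent.Helper17.Baum

universe u v

variable {G : Type u} [Group G]

/-- a `p`-subgroup of `SL₂(F)`, `char F = p`, has order at most `|F|`
(use `Cfsg.Agent.Helper12.factorization_card_SL2` from `Cfsg/Agent/Lib/Helper12/SL2Unip.lean`). -/
theorem sl2_pgroup_card_le (F : Type) [Field F] [Fintype F] {p : ℕ} [Fact p.Prime] [CharP F p]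
    (T : Subgroup (Matrix.SpecialLinearGroup (Fin 2) F)) (hT : IsPGroup p T) :
    Nat.card T ≤ Fintype.card F := by
  classical
  have hp : p.Prime := Fact.out
  obtain ⟨n, -, hq⟩ := FiniteField.card F p
  obtain ⟨k, hk⟩ := IsPGroup.exists_card_eq hT
  have hdvd : p ^ k ∣ Nat.card (Matrix.SpecialLinearGroup (Fin 2) F) := by
    rw [← hk]
    exact Subgroup.card_subgroup_dvd_card T
  have hne : Nat.card (Matrix.SpecialLinearGroup (Fin 2) F) ≠ 0 := Nat.card_pos.ne'
  have hkn : k ≤ n := by
    have h1 := (hp.pow_dvd_iff_le_factorization hne).1 hdvd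
    rwa [Cfsg.Agent.Helper12.factorization_card_SL2 p n hq] at h1
  rw [hk, hq]
  exact Nat.pow_le_pow_right hp.pos hkn

end Cfsg.Agent.Helper17.Baum
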