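import Mathlib
import Cfsg.Agent.Lib.Helper17.BaumDefs
import Cfsg.Agent.Lib.Baum.M1
import Cfsg.Agent.Lib.Baum.M2

/-! S2768/S2769/S2770 farm-out, piece BM-M3 (see plans/S2768_plan.md): the module inequality for `SL₂(F)`. -/

set_option autoImplicit false

namespace Cfsg.Agent.Helper17.Baum

universe u v

variable {G : Type u} [Group G]

/-- the fixed points of `h` on `W`, as an additive subgroup. -/
def m3_fix {H : Type u} [Group H] {W : Type v} [AddCommGroup W] [DistribMulAction H W] (h : H) :
    AddSubgroup W where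
  carrier := {w | h • w = w}
  zero_mem' := smul_zero h
  add_mem' := by
    intro a b ha hb
    show h • (a + b) = a + b
    rw [smul_add, ha, hb]
  neg_mem' := by
    intro a ha
    show h • (-a) = -a
    rw [smul_neg, ha]

/-- in `H ≅ SL₂(F)` acting on `W` with `W → F²` surjective equivariant: `|T| |C_W(h)| ≤ |W|` for `h ≠ 1`
and `T` a `p`-subgroup. -/
theorem mod_abs {H : Type u} [Group H] [Finite H] {W : Type v} [AddCommGroup W] [Finite W]
    [DistribMulAction H W] {p : ℕ} [Fact p.Prime] (hpW : ∀ w : W, p • w = 0)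
    (F : Type) [Field F] [Fintype F] (ρ : H ≃* Matrix.SpecialLinearGroup (Fin 2) F)
    (ψ : W →+ (Fin 2 → F)) (hs : Function.Surjective ψ)
    (he : ∀ (g : H) (w : W), ψ (g • w) = Matrix.mulVec
      ((ρ g : Matrix.SpecialLinearGroup (Fin 2) F) : Matrix (Fin 2) (Fin 2) F) (ψ w))
    (h : H) (hh : h ≠ 1) (T : Subgroup H) (hT : IsPGroup p T) :
    Nat.card T * Nat.card {w : W // h • w = w} ≤ Nat.card W := by
  classical
  have hp : p.Prime := Fact.out
  -- the characteristic of `F` is `p`
  have hpF : (p : F) = 0 := by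
    obtain ⟨w, hw⟩ := hs (fun _ => (1 : F))
    have h1 : ψ (p • w) = 0 := by rw [hpW, map_zero]
    rw [map_nsmul, hw] at h1
    have := congrFun h1 0
    simpa using this
  haveI : CharP F p := (CharP.charP_iff_prime_eq_zero hp).2 hpF
  -- `|T| ≤ |F|`
  have hT1 : Nat.card T ≤ Fintype.card F := by
    have h1 := sl2_pgroup_card_le F (T.map ρ.toMonoidHom) (hT.map _)
    have h2 : Nat.card (T.map ρ.toMonoidHom) = Nat.card T :=
      Subgroup.card_map_of_injective (f := ρ.toMonoidHom) ρ.injective
    rwa [h2] at h1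
  -- the fixed points
  set A : AddSubgroup W := m3_fix h with hA
  have hAcard : Nat.card {w : W // h • w = w} = Nat.card A := rfl
  set f : A →+ (Fin 2 → F) := ψ.comp A.subtype with hf
  have h1 : Nat.card f.ker * Nat.card f.range = Nat.card A := by
    rw [← AddSubgroup.index_ker]
    exact AddSubgroup.card_mul_index _
  have h2 : Nat.card ψ.ker * Nat.card ψ.range = Nat.card W := by
    rw [← AddSubgroup.index_ker]
    exact AddSubgroup.card_mul_index _
  have h3 : Nat.card ψ.range = Fintype.card F * Fintype.card F := by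
    rw [AddMonoidHom.range_eq_top.2 hs, AddSubgroup.card_top, Nat.card_eq_fintype_card,
      Fintype.card_pi]
    simp [pow_two]
  have h4 : Nat.card f.ker ≤ Nat.card ψ.ker := by
    refine Nat.card_le_card_of_injective
      (fun a => (⟨((a : A) : W), ?_⟩ : ψ.ker)) ?_
    · have := a.2
      rw [AddMonoidHom.mem_ker] at this ⊢
      exact this
    · intro a b hab
      have h5 : (((a : A) : W)) = ((b : A) : W) := congrArg (fun x : ψ.ker => (x : W)) hab
      exact Subtype.ext (Subtype.ext h5)
  have hρh : ρ h ≠ 1 := by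
    intro h0
    apply hh
    apply ρ.injective
    rw [h0, map_one]
  have h5 : Nat.card f.range ≤ Fintype.card F := by
    refine le_trans (Nat.card_le_card_of_injective
      (fun x => (⟨(x : Fin 2 → F), ?_⟩ : {x : Fin 2 → F //
        Matrix.mulVec ((ρ h : Matrix.SpecialLinearGroup (Fin 2) F) :
          Matrix (Fin 2) (Fin 2) F) x = x})) ?_) (sl2_fix_card_le F (ρ h) hρh)
    · obtain ⟨a, ha⟩ := x.2
      rw [← ha]
      show Matrix.mulVec _ (ψ (a : W)) = ψ (a : W)
      rw [← he]
      have : h • (a : W) = (a : W) := a.2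
      rw [this]
    · intro a b hab
      exact Subtype.ext (congrArg (fun x : {x : Fin 2 → F //
        Matrix.mulVec ((ρ h : Matrix.SpecialLinearGroup (Fin 2) F) :
          Matrix (Fin 2) (Fin 2) F) x = x} => (x : Fin 2 → F)) hab)
  rw [hAcard, ← h1, ← h2, h3]
  calc Nat.card T * (Nat.card f.ker * Nat.card f.range)
      ≤ Fintype.card F * (Nat.card ψ.ker * Fintype.card F) :=
        Nat.mul_le_mul hT1 (Nat.mul_le_mul h4 h5)
    _ = Nat.card ψ.ker * (Fintype.card F * Fintype.card F) := by ring

end Cfsg.Agent.Helper17.Baum
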