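import Mathlib
import Cfsg.Agent.Lib.Helper17.BaumDefs
import Cfsg.Prelude.Def_EvenType
import Cfsg.Agent.Lib.Helper14.StronglyEmbedded

/-! S2768/S2769/S2770 farm-out, piece BM-M4A (see plans/S2768_plan.md). -/

set_option autoImplicit false

namespace Cfsg.Agent.Helper17.Baum

universe u v

variable {G : Type u} [Group G]

variable {W : Type v} [AddCommGroup W] [DistribMulAction G W] {p : ℕ} [Fact p.Prime]

theorem actq_faith : ∀ g : ActQ (G := G) W, (∀ w : W, g • w = w) → g = 1 := by
  intro g hg
  obtain ⟨x, rfl⟩ := actProj_surjective (G := G) (W := W) g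
  have hx : x ∈ actKer (G := G) W := by
    rw [mem_actKer]
    intro w
    rw [← actProj_smul]
    exact hg w
  rw [← actProj_ker] at hx
  exact hx

theorem m4a_proj_eq_one_iff (x : G) :
    actProj (G := G) W x = 1 ↔ x ∈ actKer (G := G) W := by
  rw [← actProj_ker, MonoidHom.mem_ker]

theorem m4a_comap_map (M : Subgroup G) (hCM : actKer (G := G) W ≤ M) :
    (M.map (actProj (G := G) W)).comap (actProj (G := G) W) = M := by
  rw [Subgroup.comap_map_eq, actProj_ker]
  exact sup_eq_left.2 hCM

/-- `M / C` is strongly `p`-embedded in `G / C`, `C = actKer W`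
(use `Cfsg.Agent.Helper14.spe_iff_normalizerClosed`). -/
theorem actq_spe [Finite G] (M : Subgroup G) (hCM : actKer (G := G) W ≤ M) (hM : M ≠ ⊤)
    (hMp : ∃ x ∈ M, x ∉ actKer (G := G) W ∧ ∃ k : ℕ, x ^ (p ^ k) = 1)
    (hnc : ∀ A : Subgroup G, A ≤ M → actKer (G := G) W ≤ A → A ≠ actKer (G := G) W →
      (∀ a ∈ A, ∃ k : ℕ, a ^ (p ^ k) ∈ actKer (G := G) W) →
      Subgroup.normalizer (A : Set G) ≤ M) :
    Cfsg.IsStronglyPEmbedded p (M.map (actProj (G := G) W)) := by
  have hp : p.Prime := Fact.out
  have hsurj : Function.Surjective (actProj (G := G) W) := actProj_surjective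
  rw [Cfsg.Agent.Helper14.spe_iff_normalizerClosed]
  refine ⟨?_, ?_, ?_⟩
  · obtain ⟨x, hxM, hxC, k, hk⟩ := hMp
    have hxm : actProj (G := G) W x ∈ M.map (actProj (G := G) W) := Subgroup.mem_map_of_mem _ hxM
    have h1 : (actProj (G := G) W x) ^ (p ^ k) = 1 := by rw [← map_pow, hk, map_one]
    have h2 : actProj (G := G) W x ≠ 1 := by
      intro h
      exact hxC ((m4a_proj_eq_one_iff x).1 h)
    obtain ⟨j, _, hj⟩ := (Nat.dvd_prime_pow hp).1 (orderOf_dvd_of_pow_eq_one h1)
    have hj0 : j ≠ 0 := by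
      rintro rfl
      rw [pow_zero, orderOf_eq_one_iff] at hj
      exact h2 hj
    have h3 : p ∣ orderOf (actProj (G := G) W x) := by
      rw [hj]
      exact dvd_pow_self p hj0
    have h4 : orderOf (actProj (G := G) W x) ∣ Nat.card (M.map (actProj (G := G) W)) := by
      have := orderOf_dvd_natCard (⟨actProj (G := G) W x, hxm⟩ : M.map (actProj (G := G) W))
      rwa [Subgroup.orderOf_mk] at this
    exact h3.trans h4
  · intro h
    apply hM
    rw [← m4a_comap_map M hCM, h, Subgroup.comap_top]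
  · intro A hAM hA hne
    have hAM' : A.comap (actProj (G := G) W) ≤ M := by
      rw [← m4a_comap_map M hCM]
      exact Subgroup.comap_mono hAM
    have hker : actKer (G := G) W ≤ A.comap (actProj (G := G) W) := by
      rw [← actProj_ker]
      exact MonoidHom.ker_le_comap _ _
    have hne' : A.comap (actProj (G := G) W) ≠ actKer (G := G) W := by
      intro h
      apply hne
      rw [Subgroup.eq_bot_iff_forall]
      intro y hy
      obtain ⟨x, rfl⟩ := hsurj y
      have hx : x ∈ A.comap (actProj (G := G) W) := hy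
      rw [h] at hx
      exact (m4a_proj_eq_one_iff x).2 hx
    have hpow : ∀ a ∈ A.comap (actProj (G := G) W), ∃ k : ℕ, a ^ (p ^ k) ∈ actKer (G := G) W := by
      intro a ha
      obtain ⟨k, hk⟩ := hA ⟨actProj (G := G) W a, ha⟩
      refine ⟨k, ?_⟩
      rw [← m4a_proj_eq_one_iff, map_pow]
      have := congrArg Subtype.val hk
      simpa using this
    have hN := hnc _ hAM' hker hne' hpow
    rw [← Subgroup.comap_normalizer_eq_of_surjective A hsurj] at hN
    intro n hn
    obtain ⟨x, rfl⟩ := hsurj n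
    exact Subgroup.mem_map_of_mem _ (hN hn)

end Cfsg.Agent.Helper17.Baum
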