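import Mathlib
import Cfsg.Agent.Lib.Helper17.BaumDefs

/-! S2768/S2769/S2770 farm-out, piece BM-M4B (see plans/S2768_plan.md). -/

set_option autoImplicit false

namespace Cfsg.Agent.Helper17.Baum

universe u v

variable {G : Type u} [Group G]

variable {W : Type v} [AddCommGroup W] [DistribMulAction G W] {p : ℕ} [Fact p.Prime]

theorem actq_gen [Finite G]
    (hgen : Subgroup.closure {x : G | ∃ k : ℕ, x ^ (p ^ k) = 1} = ⊤) :
    Subgroup.closure {x : ActQ (G := G) W | ∃ k : ℕ, orderOf x = p ^ k} = ⊤ := by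
  have hp : p.Prime := Fact.out
  have hsurj : Function.Surjective (actProj (G := G) W) := actProj_surjective
  have h1 : (Subgroup.closure {x : G | ∃ k : ℕ, x ^ (p ^ k) = 1}).map (actProj (G := G) W) = ⊤ := by
    rw [hgen]
    exact Subgroup.map_top_of_surjective _ hsurj
  rw [MonoidHom.map_closure] at h1
  rw [eq_top_iff, ← h1]
  apply Subgroup.closure_mono
  rintro y ⟨x, ⟨k, hk⟩, rfl⟩
  have h2 : (actProj (G := G) W x) ^ (p ^ k) = 1 := by
    rw [← map_pow, hk, map_one]
  obtain ⟨j, _, hj⟩ := (Nat.dvd_prime_pow hp).1 (orderOf_dvd_of_pow_eq_one h2)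
  exact ⟨j, hj⟩

end Cfsg.Agent.Helper17.Baum
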