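import Mathlib
import Cfsg.Agent.Lib.Helper17.BaumDefs
import Cfsg.Agent.Lib.Helper13.S89Defs

/-! S2768/S2769/S2770 farm-out, piece BM-M4C (see plans/S2768_plan.md). -/

set_option autoImplicit false

namespace Cfsg.Agent.Helper17.Baum

universe u v

variable {G : Type u} [Group G]

/-- `|A| = |f(A)| · |A ∩ ker f|`. -/
theorem m4c_card_map {H : Type*} [Group H] [Finite G] (f : G →* H) (A : Subgroup G) :
    Nat.card A = Nat.card (A.map f) * Nat.card (A ⊓ f.ker : Subgroup G) := by
  have h1 : Nat.card A = Nat.card (A ⧸ (f.domRestrict A).ker) * Nat.card (f.domRestrict A).ker :=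
    Subgroup.card_eq_card_quotient_mul_card_subgroup _
  have h2 : Nat.card (A ⧸ (f.domRestrict A).ker) = Nat.card (A.map f) := by
    rw [Nat.card_congr (QuotientGroup.quotientKerEquivRange (f.domRestrict A)).toEquiv,
      MonoidHom.domRestrict_range]
  have h3 : Nat.card (f.domRestrict A).ker = Nat.card (A ⊓ f.ker : Subgroup G) := by
    rw [MonoidHom.ker_domRestrict, ← Subgroup.inf_subgroupOf_left]
    exact Nat.card_congr (Subgroup.subgroupOfEquivOfLe inf_le_left).toEquiv
  rw [h1, h2, h3]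

variable {W : Type v} [AddCommGroup W] [DistribMulAction G W] {p : ℕ} [Fact p.Prime]

theorem actq_off [Finite G] [Finite W]
    (hoff : ∃ A₀ : Subgroup G, (∀ a ∈ A₀, ∀ b ∈ A₀, a * b * a⁻¹ * b⁻¹ ∈ actKer (G := G) W) ∧
      (∀ a ∈ A₀, a ^ p ∈ actKer (G := G) W) ∧ ¬ A₀ ≤ actKer (G := G) W ∧
      Nat.card W * Nat.card (A₀ ⊓ actKer (G := G) W : Subgroup G) ≤
        Nat.card A₀ * Nat.card (Cfsg.Agent.Helper14.Bhs.fix W A₀)) :
    ∃ A₀ : Subgroup (ActQ (G := G) W), Cfsg.Agent.Helper13.S89.EA p A₀ ∧ A₀ ≠ ⊥ ∧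
      Nat.card W ≤ Nat.card A₀ * Nat.card (Cfsg.Agent.Helper14.Bhs.fix W A₀) := by
  obtain ⟨A, hcomm, hexp, hnle, hcard⟩ := hoff
  refine ⟨A.map (actProj (G := G) W), ⟨?_, ?_⟩, ?_, ?_⟩
  · rintro _ ⟨a, ha, rfl⟩ _ ⟨b, hb, rfl⟩
    have h := hcomm a ha b hb
    rw [← actProj_ker, MonoidHom.mem_ker, map_mul, map_mul, map_inv, map_inv,
      mul_inv_eq_one, mul_inv_eq_iff_eq_mul] at h
    exact h
  · rintro _ ⟨a, ha, rfl⟩
    have h := hexp a ha
    rw [← actProj_ker, MonoidHom.mem_ker, map_pow] at h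
    exact h
  · intro hbot
    apply hnle
    intro a ha
    rw [← actProj_ker, MonoidHom.mem_ker]
    have h : actProj (G := G) W a ∈ A.map (actProj (G := G) W) := Subgroup.mem_map_of_mem _ ha
    rw [hbot, Subgroup.mem_bot] at h
    exact h
  · have hfix : Cfsg.Agent.Helper14.Bhs.fix W (A.map (actProj (G := G) W)) =
        Cfsg.Agent.Helper14.Bhs.fix W A := by
      ext w
      rw [Cfsg.Agent.Helper14.Bhs.mem_fix, Cfsg.Agent.Helper14.Bhs.mem_fix]
      constructor
      · intro h a ha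
        have h' := h (actProj (G := G) W a) (Subgroup.mem_map_of_mem _ ha)
        rwa [actProj_smul] at h'
      · rintro h _ ⟨a, ha, rfl⟩
        rw [actProj_smul]
        exact h a ha
    rw [hfix]
    have hcA := m4c_card_map (actProj (G := G) W) A
    rw [actProj_ker] at hcA
    rw [hcA] at hcard
    have hpos : 0 < Nat.card (A ⊓ actKer (G := G) W : Subgroup G) := Nat.card_pos
    have h2 : Nat.card W * Nat.card (A ⊓ actKer (G := G) W : Subgroup G) ≤
        (Nat.card (A.map (actProj (G := G) W)) * Nat.card (Cfsg.Agent.Helper14.Bhs.fix W A)) *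
          Nat.card (A ⊓ actKer (G := G) W : Subgroup G) := by
      calc Nat.card W * Nat.card (A ⊓ actKer (G := G) W : Subgroup G)
          ≤ Nat.card (A.map (actProj (G := G) W)) * Nat.card (A ⊓ actKer (G := G) W : Subgroup G) *
            Nat.card (Cfsg.Agent.Helper14.Bhs.fix W A) := hcard
        _ = _ := by ring
    exact Nat.le_of_mul_le_mul_right h2 hpos

end Cfsg.Agent.Helper17.Baum
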