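import Mathlib
import Cfsg.Agent.Lib.Helper17.BaumDefs
import Cfsg.Agent.Lib.Helper13.S89Asm
import Cfsg.Agent.Lib.Baum.M3
import Cfsg.Agent.Lib.Baum.M4A
import Cfsg.Agent.Lib.Baum.M4B
import Cfsg.Agent.Lib.Baum.M4C

/-! S2768/S2769/S2770 farm-out, piece BM-M4D (see plans/S2768_plan.md).   -/

set_option autoImplicit false

namespace Cfsg.Agent.Helper17.Baum

universe u v

variable {G : Type u} [Group G]

variable {W : Type v} [AddCommGroup W] [DistribMulAction G W] {p : ℕ} [Fact p.Prime]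

theorem m4d_card_map {G' : Type*} [Group G'] (f : G →* G') (T : Subgroup G) :
    Nat.card T = Nat.card (T ⊓ f.ker : Subgroup G) * Nat.card (T.map f) := by
  have h1 := Subgroup.relIndex_mul_relIndex (⊥ : Subgroup G) (T ⊓ f.ker) T bot_le inf_le_left
  rw [Subgroup.relIndex_bot_left, Subgroup.relIndex_bot_left, Subgroup.inf_relIndex_left,
    Subgroup.relIndex_ker] at h1
  exact h1.symm

/-- `S89.abs_main` for a group `G` acting (not nec. faithfully) on `W`, with the conclusion `(MOD1)`. -/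
theorem abs_main_G [Finite G] [Finite W] (hpW : ∀ w : W, p • w = 0)
    (M : Subgroup G) (hCM : actKer (G := G) W ≤ M) (hM : M ≠ ⊤)
    (hMp : ∃ x ∈ M, x ∉ actKer (G := G) W ∧ ∃ k : ℕ, x ^ (p ^ k) = 1)
    (hnc : ∀ A : Subgroup G, A ≤ M → actKer (G := G) W ≤ A → A ≠ actKer (G := G) W →
      (∀ a ∈ A, ∃ k : ℕ, a ^ (p ^ k) ∈ actKer (G := G) W) →
      Subgroup.normalizer (A : Set G) ≤ M)
    (hgen : Subgroup.closure {x : G | ∃ k : ℕ, x ^ (p ^ k) = 1} = ⊤)
    (hoff : ∃ A₀ : Subgroup G, (∀ a ∈ A₀, ∀ b ∈ A₀, a * b * a⁻¹ * b⁻¹ ∈ actKer (G := G) W) ∧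
      (∀ a ∈ A₀, a ^ p ∈ actKer (G := G) W) ∧ ¬ A₀ ≤ actKer (G := G) W ∧
      Nat.card W * Nat.card (A₀ ⊓ actKer (G := G) W : Subgroup G) ≤
        Nat.card A₀ * Nat.card (Cfsg.Agent.Helper14.Bhs.fix W A₀))
    (a : G) (ha : a ∉ actKer (G := G) W) (T : Subgroup G) (hT : IsPGroup p T) :
    Nat.card T * Nat.card {w : W // a • w = w} ≤
      Nat.card (T ⊓ actKer (G := G) W : Subgroup G) * Nat.card W := by
  classical
  have faith := actq_faith (G := G) (W := W)
  have hX := actq_spe (W := W) (p := p) M hCM hM hMp hnc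
  have hg := actq_gen (W := W) (p := p) hgen
  have ho := actq_off (W := W) (p := p) hoff
  obtain ⟨F, i1, i2, ρ, ψ, h1, -, h3⟩ :=
    Cfsg.Agent.Helper13.S89.abs_main (H := ActQ (G := G) W) hpW faith hX hg ho
  have hh : actProj (G := G) W a ≠ 1 := by
    intro h
    apply ha
    rw [← actProj_ker (G := G) (W := W)]
    exact MonoidHom.mem_ker.2 h
  have key := mod_abs hpW F ρ ψ h1 h3 (actProj (G := G) W a) hh (T.map (actProj (G := G) W))
    (hT.map _)
  have hfix : Nat.card {w : W // actProj (G := G) W a • w = w} = Nat.card {w : W // a • w = w} :=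
    rfl
  rw [hfix] at key
  have hcard := m4d_card_map (actProj (G := G) W) T
  rw [actProj_ker] at hcard
  calc Nat.card T * Nat.card {w : W // a • w = w}
      = Nat.card (T ⊓ actKer (G := G) W : Subgroup G) *
          (Nat.card (T.map (actProj (G := G) W)) * Nat.card {w : W // a • w = w}) := by
        rw [hcard]; ring
    _ ≤ Nat.card (T ⊓ actKer (G := G) W : Subgroup G) * Nat.card W :=
        Nat.mul_le_mul_left _ key

end Cfsg.Agent.Helper17.Baum
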