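import Mathlib
import Cfsg.Agent.Lib.Helper17.BaumDefs

/-! S2768/S2769/S2770 farm-out, piece BM-OC (see plans/S2768_plan.md). -/

set_option autoImplicit false

namespace Cfsg.Agent.Helper17.Baum

universe u v

variable {G : Type u} [Group G]

/-- if `x w x⁻¹ = c w` and `x` commutes with `c` then `x^m w x^{-m} = c^m w`. -/
theorem oc_conj_pow {x w c : G} (hcw : x * w * x⁻¹ = c * w) (hxc : Commute x c) (m : ℕ) :
    x ^ m * w * (x ^ m)⁻¹ = c ^ m * w := by
  induction m with
  | zero => simp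
  | succ m ih =>
    have h1 : x ^ (m + 1) * w * (x ^ (m + 1))⁻¹ = x * (x ^ m * w * (x ^ m)⁻¹) * x⁻¹ := by
      rw [pow_succ', mul_inv_rev]; simp only [mul_assoc]
    rw [h1, ih]
    have h2 : x * c ^ m = c ^ m * x := (hxc.pow_right m).eq
    calc x * (c ^ m * w) * x⁻¹ = (x * c ^ m) * w * x⁻¹ := by simp only [mul_assoc]
      _ = c ^ m * (x * w * x⁻¹) := by rw [h2]; simp only [mul_assoc]
      _ = c ^ (m + 1) * w := by rw [hcw, pow_succ]; simp only [mul_assoc]

/-- a `p'`-element normalizing the abelian `p`-group `W` and centralizing `Ω₁(W)` centralizes `W`. -/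
theorem omega_coprime [Finite G] {p : ℕ} [Fact p.Prime] {W : Subgroup G} (hc : Comm W)
    (hpg : IsPGroup p W) {x : G} (hx : (orderOf x).Coprime p) (hnorm : ∀ w ∈ W, x * w * x⁻¹ ∈ W)
    (hcent : ∀ w ∈ W, w ^ p = 1 → x * w = w * x) : ∀ w ∈ W, x * w = w * x := by
  have key : ∀ k : ℕ, ∀ w ∈ W, w ^ (p ^ k) = 1 → x * w = w * x := by
    intro k
    induction k with
    | zero =>
      intro w _ hw
      rw [pow_zero, pow_one] at hw
      rw [hw, mul_one, one_mul]
    | succ k ih =>
      intro w hw hwk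
      have hwp : x * w ^ p = w ^ p * x := by
        apply ih (w ^ p) (W.pow_mem hw p)
        rw [← pow_mul, ← pow_succ']
        exact hwk
      have hcW : x * w * x⁻¹ * w⁻¹ ∈ W := W.mul_mem (hnorm w hw) (W.inv_mem hw)
      have hcp : (x * w * x⁻¹ * w⁻¹) ^ p = 1 := by
        have hcomm : Commute (x * w * x⁻¹) w⁻¹ := hc _ (hnorm w hw) _ (W.inv_mem hw)
        rw [hcomm.mul_pow, conj_pow, inv_pow, hwp]
        simp
      have hxc : x * (x * w * x⁻¹ * w⁻¹) = (x * w * x⁻¹ * w⁻¹) * x := hcent _ hcW hcp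
      have hcw : x * w * x⁻¹ = (x * w * x⁻¹ * w⁻¹) * w := by
        rw [inv_mul_cancel_right]
      have hm := oc_conj_pow hcw hxc (orderOf x)
      rw [pow_orderOf_eq_one, one_mul, inv_one, mul_one] at hm
      have hcm : (x * w * x⁻¹ * w⁻¹) ^ (orderOf x) = 1 := by
        have := congrArg (· * w⁻¹) hm
        simp only [mul_inv_cancel, mul_inv_cancel_right] at this
        exact this.symm
      have hd1 : orderOf (x * w * x⁻¹ * w⁻¹) ∣ orderOf x := orderOf_dvd_of_pow_eq_one hcm
      have hd2 : orderOf (x * w * x⁻¹ * w⁻¹) ∣ p := orderOf_dvd_of_pow_eq_one hcp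
      have hd3 : orderOf (x * w * x⁻¹ * w⁻¹) ∣ 1 := by
        have := Nat.dvd_gcd hd1 hd2
        rwa [Nat.Coprime.gcd_eq_one hx] at this
      have hc1 : x * w * x⁻¹ * w⁻¹ = 1 := by
        rw [← orderOf_eq_one_iff]
        exact Nat.dvd_one.mp hd3
      have h5 : x * w * x⁻¹ = w := by
        rw [← mul_inv_eq_one]; exact hc1
      calc x * w = x * w * x⁻¹ * x := by rw [inv_mul_cancel_right]
        _ = w * x := by rw [h5]
  intro w hw
  obtain ⟨k, hk⟩ := hpg ⟨w, hw⟩
  have hk' : w ^ (p ^ k) = 1 := by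
    have := congrArg Subtype.val hk
    simpa using this
  exact key k w hw hk'

end Cfsg.Agent.Helper17.Baum
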