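import Mathlib
import Cfsg.Agent.Lib.Helper17.BaumDefs

/-! S2768/S2769/S2770 farm-out, piece BM-OM (see plans/S2768_plan.md).   -/

set_option autoImplicit false

namespace Cfsg.Agent.Helper17.Baum

universe u v

variable {G : Type u} [Group G]

theorem Om_le (p : ℕ) (W : Subgroup G) : Om p W ≤ W := by
  unfold Om
  rw [Subgroup.closure_le]
  intro x hx
  exact hx.1

theorem mem_Om {p : ℕ} {W : Subgroup G} {w : G} (hw : w ∈ W) (hp : w ^ p = 1) : w ∈ Om p W :=
  Subgroup.subset_closure ⟨hw, hp⟩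

theorem Om_normal (p : ℕ) {W : Subgroup G} (hW : W.Normal) : (Om p W).Normal := by
  constructor
  intro n hn g
  unfold Om at hn ⊢
  induction hn using Subgroup.closure_induction with
  | mem x hx =>
    apply Subgroup.subset_closure
    refine ⟨hW.conj_mem x hx.1 g, ?_⟩
    rw [conj_pow, hx.2, mul_one, mul_inv_cancel]
  | one => rw [mul_one, mul_inv_cancel]; exact Subgroup.one_mem _
  | mul x y _ _ ihx ihy =>
    have e : g * (x * y) * g⁻¹ = (g * x * g⁻¹) * (g * y * g⁻¹) := by group
    rw [e]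
    exact Subgroup.mul_mem _ ihx ihy
  | inv x _ ihx =>
    have e : g * x⁻¹ * g⁻¹ = (g * x * g⁻¹)⁻¹ := by group
    rw [e]
    exact Subgroup.inv_mem _ ihx

theorem Om_exp {p : ℕ} {W : Subgroup G} (hc : Comm W) : ∀ v ∈ Om p W, v ^ p = 1 := by
  intro v hv
  have hvW : ∀ x ∈ Om p W, x ∈ W := fun x hx => Om_le p W hx
  unfold Om at hv
  induction hv using Subgroup.closure_induction with
  | mem x hx => exact hx.2
  | one => exact one_pow p
  | mul x y hx hy ihx ihy =>
    have hxW : x ∈ W := (Subgroup.closure_le W).2 (fun z hz => hz.1) hx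
    have hyW : y ∈ W := (Subgroup.closure_le W).2 (fun z hz => hz.1) hy
    have hcomm : Commute x y := hc x hxW y hyW
    rw [hcomm.mul_pow, ihx, ihy, one_mul]
  | inv x hx ihx => rw [inv_pow, ihx, inv_one]

end Cfsg.Agent.Helper17.Baum
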