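import Mathlib
import Cfsg.Agent.Lib.Helper17.BaumDefs
import Cfsg.Agent.Lib.Helper12.SL2Unip

/-! S2768/S2769/S2770 farm-out, piece BM-P1 (see plans/S2768_plan.md). -/

set_option autoImplicit false

namespace Cfsg.Agent.Helper17.Baum

open scoped Pointwise

universe u v

variable {G : Type u} [Group G]

variable (F : Type) [Field F] [Fintype F] {p : ℕ} [Fact p.Prime] (n : ℕ)

open Cfsg.Agent.Helper12 in
/-- the characteristic of a field of order `p ^ n` -/
theorem p1_charP (hF : Fintype.card F = p ^ n) : CharP F p := by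
  have hp : p.Prime := Fact.out
  rw [CharP.charP_iff_prime_eq_zero hp]
  have h := Nat.cast_card_eq_zero F
  rw [hF, Nat.cast_pow] at h
  exact eq_zero_of_pow_eq_zero h

omit [Fintype F] in
open Cfsg.Agent.Helper12 in
/-- a central unitriangular matrix is trivial -/
theorem p1_center_unip (u : Matrix.SpecialLinearGroup (Fin 2) F) (hu : u ∈ unipSL2 F)
    (hc : u ∈ Subgroup.center (Matrix.SpecialLinearGroup (Fin 2) F)) : u = 1 := by
  obtain ⟨r, -, hr⟩ := Matrix.SpecialLinearGroup.mem_center_iff.mp hc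
  obtain ⟨-, h00, -⟩ := (mem_unipSL2_iff u).1 hu
  have hr1 : r = 1 := by
    rw [← hr] at h00
    simpa using h00
  subst hr1
  apply Subtype.ext
  rw [← hr]
  simp

omit [Fintype F] [Fact p.Prime] in
open Cfsg.Agent.Helper12 in
/-- elements of the unitriangular group have order dividing the characteristic -/
theorem p1_unip_pow [CharP F p] (u : Matrix.SpecialLinearGroup (Fin 2) F)
    (hu : u ∈ unipSL2 F) : u ^ p = 1 := by
  obtain ⟨b, rfl⟩ := hu
  rw [← map_pow]
  have hb : b ^ p = 1 := by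
    apply Multiplicative.toAdd.injective
    rw [toAdd_pow, toAdd_one, nsmul_eq_mul, CharP.cast_eq_zero, zero_mul]
  rw [hb, map_one]

open Cfsg.Agent.Helper12 in
/-- Sylow `p`-subgroups of `PSL₂(p^n)`: order `p^n`, abelian, exponent `p`
(helper12's `Cfsg/Agent/Lib/Helper12/SL2Unip.lean`: `unipSL2`, `unipSylow`, `exists_conj_unipSL2`,
`card_unipSL2`; `Cfsg/Agent/Lib/Helper12/PSL2Max3.lean`: `card_PSL2_mul'`). -/
theorem psl2_sylow (hF : Fintype.card F = p ^ n)
    (P : Sylow p (Matrix.ProjectiveSpecialLinearGroup (Fin 2) F)) :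
    Nat.card (P : Subgroup (Matrix.ProjectiveSpecialLinearGroup (Fin 2) F)) = p ^ n ∧
    (∀ x ∈ (P : Subgroup (Matrix.ProjectiveSpecialLinearGroup (Fin 2) F)),
      ∀ y ∈ (P : Subgroup (Matrix.ProjectiveSpecialLinearGroup (Fin 2) F)), x * y = y * x) ∧
    (∀ x ∈ (P : Subgroup (Matrix.ProjectiveSpecialLinearGroup (Fin 2) F)), x ^ p = 1) := by
  classical
  have : CharP F p := p1_charP F n hF
  let π : Matrix.SpecialLinearGroup (Fin 2) F →* Matrix.ProjectiveSpecialLinearGroup (Fin 2) F :=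
    QuotientGroup.mk' (Subgroup.center (Matrix.SpecialLinearGroup (Fin 2) F))
  have hπ : Function.Surjective π := QuotientGroup.mk'_surjective _
  let U : Sylow p (Matrix.ProjectiveSpecialLinearGroup (Fin 2) F) :=
    (unipSylow (F := F) p).mapSurjective hπ
  obtain ⟨g, hg⟩ := MulAction.exists_smul_eq (Matrix.ProjectiveSpecialLinearGroup (Fin 2) F) U P
  have hP : (P : Subgroup (Matrix.ProjectiveSpecialLinearGroup (Fin 2) F)) =
      MulAut.conj g • (unipSL2 F).map π := by
    rw [← hg, Sylow.coe_subgroup_smul]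
    rfl
  have hmem : ∀ x ∈ (P : Subgroup (Matrix.ProjectiveSpecialLinearGroup (Fin 2) F)),
      ∃ u ∈ unipSL2 F, x = g * π u * g⁻¹ := by
    intro x hx
    rw [hP] at hx
    obtain ⟨y, hy, rfl⟩ := hx
    obtain ⟨u, hu, rfl⟩ := hy
    exact ⟨u, hu, rfl⟩
  refine ⟨?_, ?_, ?_⟩
  · rw [hP, ← Nat.card_congr (Subgroup.equivSMul (MulAut.conj g) ((unipSL2 F).map π)).toEquiv]
    have hbij : Function.Bijective (π.subgroupMap (unipSL2 F)) := by
      refine ⟨?_, π.subgroupMap_surjective (unipSL2 F)⟩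
      intro a b hab
      have h1 : π (a : Matrix.SpecialLinearGroup (Fin 2) F) =
          π (b : Matrix.SpecialLinearGroup (Fin 2) F) := congrArg Subtype.val hab
      have h2 : (a : Matrix.SpecialLinearGroup (Fin 2) F)⁻¹ * b ∈
          Subgroup.center (Matrix.SpecialLinearGroup (Fin 2) F) := QuotientGroup.eq.1 h1
      have h3 : (a : Matrix.SpecialLinearGroup (Fin 2) F)⁻¹ * b = 1 :=
        p1_center_unip F _ ((unipSL2 F).mul_mem ((unipSL2 F).inv_mem a.2) b.2) h2
      apply Subtype.ext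
      exact inv_mul_eq_one.1 h3
    rw [← Nat.card_congr (Equiv.ofBijective _ hbij), card_unipSL2, hF]
  · intro x hx y hy
    obtain ⟨u, hu, rfl⟩ := hmem x hx
    obtain ⟨v, hv, rfl⟩ := hmem y hy
    have huv : π u * π v = π v * π u := by
      rw [← map_mul, ← map_mul, unipSL2_comm u v hu hv]
    calc g * π u * g⁻¹ * (g * π v * g⁻¹) = g * (π u * π v) * g⁻¹ := by group
      _ = g * (π v * π u) * g⁻¹ := by rw [huv]
      _ = g * π v * g⁻¹ * (g * π u * g⁻¹) := by group
  · intro x hx
    obtain ⟨u, hu, rfl⟩ := hmem x hx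
    rw [conj_pow, ← map_pow, p1_unip_pow F u hu, map_one, mul_one, mul_inv_cancel]

end Cfsg.Agent.Helper17.Baum
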