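import Mathlib
import Cfsg.Agent.Lib.Helper17.BaumDefs
import Cfsg.Agent.Lib.Helper12.SL2Unip

/-! S2768/S2769/S2770 farm-out, piece BM-P2 (see plans/S2768_plan.md). -/

set_option autoImplicit false

namespace Cfsg.Agent.Helper17.Baum

universe u v

variable {G : Type u} [Group G]


variable (F : Type) [Field F] [Fintype F] {p : ℕ} [Fact p.Prime] (n : ℕ)

/-- the characteristic of a field of order `p ^ n` -/
theorem p2_charP (hF : Fintype.card F = p ^ n) : CharP F p := by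
  have hp : p.Prime := Fact.out
  rw [CharP.charP_iff_prime_eq_zero hp]
  have h := Nat.cast_card_eq_zero F
  rw [hF, Nat.cast_pow] at h
  exact eq_zero_of_pow_eq_zero h

/-- the Weyl element `[[0,-1],[1,0]]`. -/
def p2_w : Matrix.SpecialLinearGroup (Fin 2) F :=
  ⟨!![0, -1; 1, 0], by simp [Matrix.det_fin_two]⟩

omit [Fintype F] in
open Cfsg.Agent.Helper12 in
/-- `Ū ∩ w Ū w⁻¹ = 1` in `PSL₂`. -/
theorem p2_core (x : Matrix.ProjectiveSpecialLinearGroup (Fin 2) F)
    (hx : x ∈ (unipSL2 F).map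
      (QuotientGroup.mk' (Subgroup.center (Matrix.SpecialLinearGroup (Fin 2) F))))
    (hx' : QuotientGroup.mk' (Subgroup.center (Matrix.SpecialLinearGroup (Fin 2) F)) (p2_w F) * x *
      (QuotientGroup.mk' (Subgroup.center (Matrix.SpecialLinearGroup (Fin 2) F)) (p2_w F))⁻¹ ∈
      (unipSL2 F).map
        (QuotientGroup.mk' (Subgroup.center (Matrix.SpecialLinearGroup (Fin 2) F)))) :
    x = 1 := by
  set π := QuotientGroup.mk' (Subgroup.center (Matrix.SpecialLinearGroup (Fin 2) F)) with hπ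
  obtain ⟨u, hu, rfl⟩ := hx
  obtain ⟨u', hu', hu'eq⟩ := hx'
  have hz : (u')⁻¹ * (p2_w F * u * (p2_w F)⁻¹) ∈
      Subgroup.center (Matrix.SpecialLinearGroup (Fin 2) F) := by
    have h1 : π u' = π (p2_w F * u * (p2_w F)⁻¹) := by
      rw [hu'eq, map_mul, map_mul, map_inv]
    rw [hπ] at h1
    exact (QuotientGroup.eq).1 h1
  obtain ⟨c, -, hc⟩ := (Matrix.SpecialLinearGroup.mem_center_iff).1 hz
  obtain ⟨hu10, hu00, hu11⟩ := (mem_unipSL2_iff u).1 hu
  obtain ⟨hu'10, hu'00, hu'11⟩ := (mem_unipSL2_iff u').1 hu'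
  have heq : p2_w F * u * (p2_w F)⁻¹ = u' * ((u')⁻¹ * (p2_w F * u * (p2_w F)⁻¹)) := by group
  have h10 : ((p2_w F * u * (p2_w F)⁻¹ : Matrix.SpecialLinearGroup (Fin 2) F) :
      Matrix (Fin 2) (Fin 2) F) 1 0 = 0 := by
    rw [heq, Matrix.SpecialLinearGroup.coe_mul, ← hc]
    simp [Matrix.mul_apply, Fin.sum_univ_two, hu'10, Matrix.scalar_apply]
  rw [Matrix.SpecialLinearGroup.coe_mul, Matrix.SpecialLinearGroup.coe_mul,
    Matrix.SpecialLinearGroup.coe_inv, conj_entry_10, hu10, hu00, hu11] at h10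
  have hb : (u : Matrix (Fin 2) (Fin 2) F) 0 1 = 0 := by
    have e1 : ((p2_w F : Matrix.SpecialLinearGroup (Fin 2) F) : Matrix (Fin 2) (Fin 2) F) 1 0 = 1 := by
      simp [p2_w]
    have e2 : ((p2_w F : Matrix.SpecialLinearGroup (Fin 2) F) : Matrix (Fin 2) (Fin 2) F) 1 1 = 0 := by
      simp [p2_w]
    rw [e1, e2] at h10
    linear_combination -h10
  have : u = 1 := by
    ext i j
    fin_cases i <;> fin_cases j <;> simp [hu10, hu00, hu11, hb]
  rw [this, map_one]

open Cfsg.Agent.Helper12 in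
/-- `O_p(PSL₂(p^n)) = 1`. -/
theorem psl2_core (hn : 1 ≤ n) (hF : Fintype.card F = p ^ n)
    (N : Subgroup (Matrix.ProjectiveSpecialLinearGroup (Fin 2) F)) (hN : N.Normal)
    (hp : IsPGroup p N) : N = ⊥ := by
  classical
  have : CharP F p := p2_charP F n hF
  let π : Matrix.SpecialLinearGroup (Fin 2) F →* Matrix.ProjectiveSpecialLinearGroup (Fin 2) F :=
    QuotientGroup.mk' (Subgroup.center (Matrix.SpecialLinearGroup (Fin 2) F))
  have hπ : Function.Surjective π := QuotientGroup.mk'_surjective _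
  let U : Sylow p (Matrix.ProjectiveSpecialLinearGroup (Fin 2) F) :=
    (unipSylow (F := F) p).mapSurjective hπ
  have hU : (U : Subgroup (Matrix.ProjectiveSpecialLinearGroup (Fin 2) F)) = (unipSL2 F).map π := rfl
  obtain ⟨P, hNP⟩ := hp.exists_le_sylow
  obtain ⟨g, hg⟩ := MulAction.exists_smul_eq (Matrix.ProjectiveSpecialLinearGroup (Fin 2) F) P U
  have hNU : N ≤ (unipSL2 F).map π := by
    intro x hx
    rw [← hU, ← hg, Sylow.coe_subgroup_smul, Subgroup.mem_pointwise_smul_iff_inv_smul_mem]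
    apply hNP
    have : (MulAut.conj g)⁻¹ • x = g⁻¹ * x * (g⁻¹)⁻¹ := by
      simp [MulAut.smul_def]
    rw [this]
    exact hN.conj_mem x hx g⁻¹
  rw [eq_bot_iff]
  intro x hx
  rw [Subgroup.mem_bot]
  exact p2_core F x (hNU hx) (hNU (hN.conj_mem x hx _))

end Cfsg.Agent.Helper17.Baum
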