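import Mathlib
import Cfsg.Agent.Lib.Helper17.BaumDefs
import Cfsg.Agent.Lib.Helper12.SL2Unip

/-! S2768/S2769/S2770 farm-out, piece BM-P3 (see plans/S2768_plan.md). -/

set_option autoImplicit false

namespace Cfsg.Agent.Helper17.Baum

open scoped Pointwise

universe u v

variable {G : Type u} [Group G]

/-- transport of `N(R) ≤ N(H)` to a conjugate of `H`. -/
theorem p3_conj_transport {X : Type*} [Group X] (H : Subgroup X)
    (hH : ∀ R' : Subgroup X, R' ≤ H → R' ≠ ⊥ →
      Subgroup.normalizer (R' : Set X) ≤ Subgroup.normalizer (H : Set X))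
    (g : X) (R : Subgroup X) (hR : R ≤ MulAut.conj g • H) (hR1 : R ≠ ⊥) :
    Subgroup.normalizer (R : Set X) ≤ Subgroup.normalizer ((MulAut.conj g • H : Subgroup X) : Set X) := by
  intro x hx
  set R' : Subgroup X := MulAut.conj g⁻¹ • R with hR'
  have hmemR' : ∀ h : X, h ∈ R' ↔ g * h * g⁻¹ ∈ R := by
    intro h
    rw [hR', Subgroup.mem_pointwise_smul_iff_inv_smul_mem]
    simp [MulAut.smul_def]
  have hmemK : ∀ h : X, h ∈ MulAut.conj g • H ↔ g⁻¹ * h * g ∈ H := by
    intro h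
    rw [Subgroup.mem_pointwise_smul_iff_inv_smul_mem]
    simp [MulAut.smul_def]
  have hR'H : R' ≤ H := by
    intro h hh
    have h1 := hR ((hmemR' h).1 hh)
    have h2 := (hmemK _).1 h1
    have e : g⁻¹ * (g * h * g⁻¹) * g = h := by group
    rwa [e] at h2
  have hR'1 : R' ≠ ⊥ := by
    intro hbot
    apply hR1
    rw [eq_bot_iff]
    intro r hr
    have h1 : g⁻¹ * r * g ∈ R' := by
      rw [hmemR']
      have e : g * (g⁻¹ * r * g) * g⁻¹ = r := by group
      rwa [e]
    rw [hbot, Subgroup.mem_bot] at h1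
    rw [Subgroup.mem_bot]
    have e : r = g * (g⁻¹ * r * g) * g⁻¹ := by group
    rw [e, h1]; group
  have hy : g⁻¹ * x * g ∈ Subgroup.normalizer (R' : Set X) := by
    rw [Subgroup.mem_normalizer_iff]
    intro h
    rw [hmemR', hmemR']
    have h1 := (Subgroup.mem_normalizer_iff.1 hx) (g * h * g⁻¹)
    rw [h1]
    have e : g * (g⁻¹ * x * g * h * (g⁻¹ * x * g)⁻¹) * g⁻¹ = x * (g * h * g⁻¹) * x⁻¹ := by group
    rw [e]
  have hy2 := hH R' hR'H hR'1 hy
  rw [Subgroup.mem_normalizer_iff] at hy2 ⊢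
  intro h
  rw [hmemK, hmemK]
  have h1 := hy2 (g⁻¹ * h * g)
  rw [h1]
  have e : g⁻¹ * x * g * (g⁻¹ * h * g) * (g⁻¹ * x * g)⁻¹ = g⁻¹ * (x * h * x⁻¹) * g := by group
  rw [e]

variable (F : Type) [Field F] [Fintype F] {p : ℕ} [Fact p.Prime] (n : ℕ)

omit [Fintype F] in
/-- the core of `psl2_ti`: for the image of the unitriangular subgroup. -/
theorem p3_core [DecidableEq F]
    (R : Subgroup (Matrix.ProjectiveSpecialLinearGroup (Fin 2) F))
    (hRU : R ≤ (Cfsg.Agent.Helper12.unipSL2 F).map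
      (QuotientGroup.mk' (Subgroup.center (Matrix.SpecialLinearGroup (Fin 2) F))))
    (hR : R ≠ ⊥) :
    Subgroup.normalizer (R : Set (Matrix.ProjectiveSpecialLinearGroup (Fin 2) F)) ≤
      Subgroup.normalizer ((((Cfsg.Agent.Helper12.unipSL2 F).map
        (QuotientGroup.mk' (Subgroup.center (Matrix.SpecialLinearGroup (Fin 2) F))) :
          Subgroup (Matrix.ProjectiveSpecialLinearGroup (Fin 2) F))) :
        Set (Matrix.ProjectiveSpecialLinearGroup (Fin 2) F)) := by
  set π := QuotientGroup.mk' (Subgroup.center (Matrix.SpecialLinearGroup (Fin 2) F)) with hπ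
  intro xb hxb
  obtain ⟨x, rfl⟩ := QuotientGroup.mk'_surjective _ xb
  -- a nontrivial element of R
  obtain ⟨⟨r, hrR⟩, hr1'⟩ := (Subgroup.ne_bot_iff_exists_ne_one (H := R)).1 hR
  have hr1 : r ≠ 1 := fun h => hr1' (Subtype.ext h)
  obtain ⟨u, hu, rfl⟩ := hRU hrR
  -- conjugate lies in R, hence in the image of U
  have hconj : π x * π u * (π x)⁻¹ ∈ R := (Subgroup.mem_normalizer_iff.1 hxb (π u)).1 hrR
  obtain ⟨u', hu', hu'eq⟩ := hRU hconj
  -- x u x⁻¹ = z u' with z central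
  have hz : (u')⁻¹ * (x * u * x⁻¹) ∈ Subgroup.center (Matrix.SpecialLinearGroup (Fin 2) F) := by
    have h1 : π u' = π (x * u * x⁻¹) := by
      rw [hu'eq, map_mul, map_mul, map_inv]
    rw [hπ] at h1
    exact (QuotientGroup.eq).1 h1
  obtain ⟨c, -, hc⟩ := (Matrix.SpecialLinearGroup.mem_center_iff).1 hz
  -- entries
  obtain ⟨hu10, hu00, hu11⟩ := (Cfsg.Agent.Helper12.mem_unipSL2_iff u).1 hu
  obtain ⟨hu'10, hu'00, hu'11⟩ := (Cfsg.Agent.Helper12.mem_unipSL2_iff u').1 hu'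
  -- u ≠ 1, so the (0,1) entry is nonzero
  have hb : (u : Matrix (Fin 2) (Fin 2) F) 0 1 ≠ 0 := by
    intro h0
    apply hr1
    have : u = 1 := by
      ext i j
      fin_cases i <;> fin_cases j <;> simp [hu10, hu00, hu11, h0]
    rw [this, map_one]
  -- x u x⁻¹ = u' * scalar c
  have heq : x * u * x⁻¹ = u' * ((u')⁻¹ * (x * u * x⁻¹)) := by group
  have h10 : ((x * u * x⁻¹ : Matrix.SpecialLinearGroup (Fin 2) F) : Matrix (Fin 2) (Fin 2) F) 1 0 = 0 := by
    rw [heq, Matrix.SpecialLinearGroup.coe_mul, ← hc]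
    simp [Matrix.mul_apply, Fin.sum_univ_two, hu'10, Matrix.scalar_apply]
  rw [Matrix.SpecialLinearGroup.coe_mul, Matrix.SpecialLinearGroup.coe_mul,
    Matrix.SpecialLinearGroup.coe_inv, Cfsg.Agent.Helper12.conj_entry_10, hu10, hu00, hu11] at h10
  have hx10 : (x : Matrix (Fin 2) (Fin 2) F) 1 0 = 0 := by
    have h2 : (u : Matrix (Fin 2) (Fin 2) F) 0 1 * ((x : Matrix (Fin 2) (Fin 2) F) 1 0) ^ 2 = 0 := by
      linear_combination -h10
    rcases mul_eq_zero.1 h2 with h3 | h3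
    · exact absurd h3 hb
    · exact pow_eq_zero_iff (two_ne_zero) |>.1 h3
  have hxB : x ∈ Cfsg.Agent.Helper12.borelSL2 F := (Cfsg.Agent.Helper12.mem_borelSL2_iff x).2 hx10
  have hxN : x ∈ Subgroup.normalizer ((Cfsg.Agent.Helper12.unipSL2 F :
      Subgroup (Matrix.SpecialLinearGroup (Fin 2) F)) : Set (Matrix.SpecialLinearGroup (Fin 2) F)) := by
    rw [Cfsg.Agent.Helper12.normalizer_unipSL2]; exact hxB
  -- the image normalizes the image
  exact Subgroup.le_normalizer_map π (Subgroup.mem_map_of_mem π hxN)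

set_option linter.unusedVariables false in
/-- Sylow `p`-subgroups of `PSL₂(p^n)` are TI, in the form `N(R) ≤ N(P)` for `1 ≠ R ≤ P`. -/
theorem psl2_ti (hn : 1 ≤ n) (hF : Fintype.card F = p ^ n)
    (P : Sylow p (Matrix.ProjectiveSpecialLinearGroup (Fin 2) F))
    (R : Subgroup (Matrix.ProjectiveSpecialLinearGroup (Fin 2) F))
    (hRP : R ≤ (P : Subgroup (Matrix.ProjectiveSpecialLinearGroup (Fin 2) F))) (hR : R ≠ ⊥) :
    Subgroup.normalizer (R : Set (Matrix.ProjectiveSpecialLinearGroup (Fin 2) F)) ≤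
      Subgroup.normalizer ((P : Subgroup (Matrix.ProjectiveSpecialLinearGroup (Fin 2) F)) :
        Set (Matrix.ProjectiveSpecialLinearGroup (Fin 2) F)) := by
  classical
  have hchar : CharP F p := charP_of_card_eq_prime_pow hF
  set π := QuotientGroup.mk' (Subgroup.center (Matrix.SpecialLinearGroup (Fin 2) F)) with hπ
  have hπs : Function.Surjective π := QuotientGroup.mk'_surjective _
  set P₀ : Sylow p (Matrix.ProjectiveSpecialLinearGroup (Fin 2) F) :=
    (Cfsg.Agent.Helper12.unipSylow (F := F) p).mapSurjective hπs with hP₀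
  have hP₀c : (P₀ : Subgroup (Matrix.ProjectiveSpecialLinearGroup (Fin 2) F)) =
      (Cfsg.Agent.Helper12.unipSL2 F).map π := by
    rw [hP₀, Sylow.coe_mapSurjective, Cfsg.Agent.Helper12.unipSylow_coe]
  obtain ⟨g, hg⟩ := MulAction.exists_smul_eq (Matrix.ProjectiveSpecialLinearGroup (Fin 2) F) P₀ P
  have hPc : (P : Subgroup (Matrix.ProjectiveSpecialLinearGroup (Fin 2) F)) =
      MulAut.conj g • (Cfsg.Agent.Helper12.unipSL2 F).map π := by
    rw [← hg, Sylow.coe_subgroup_smul, hP₀c]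
  rw [hPc] at hRP ⊢
  exact p3_conj_transport _ (fun R' hR' hR'1 => p3_core F R' hR' hR'1) g R hRP hR

end Cfsg.Agent.Helper17.Baum
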