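import Mathlib
import Cfsg.Agent.Lib.Helper17.BaumDefs
import Cfsg.Agent.Lib.Helper14.BhsDefs

/-! S2768/S2769/S2770 farm-out, piece BM-V1 (see plans/S2768_plan.md). -/

set_option autoImplicit false

namespace Cfsg.Agent.Helper17.Baum

universe u v

variable {G : Type u} [Group G]

variable {V : Subgroup G} (hn : V.Normal) (hc : Comm V)

/-- `g • w = w` in `ModV` iff `g` commutes with the underlying element. -/
theorem v1_smul_eq_iff (g : G) (w : ModV V hn hc) :
    g • w = w ↔ (ModV.val w : G) * g = g * (ModV.val w : G) := by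
  constructor
  · intro h
    have h1 : ((ModV.val (g • w) : ↥V) : G) = (ModV.val w : G) := by rw [h]
    rw [ModV.val_smul] at h1
    calc (ModV.val w : G) * g = (g * (ModV.val w : G) * g⁻¹) * g := by rw [h1]
      _ = g * (ModV.val w : G) := by group
  · intro h
    apply ModV.val_injective
    apply Subtype.ext
    rw [ModV.val_smul]
    calc g * (ModV.val w : G) * g⁻¹ = ((ModV.val w : G) * g) * g⁻¹ := by rw [h]
      _ = (ModV.val w : G) := by group

theorem modv_actKer : actKer (G := G) (ModV V hn hc) = Subgroup.centralizer (V : Set G) := by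
  ext g
  rw [mem_actKer, Subgroup.mem_centralizer_iff]
  constructor
  · intro h v hv
    have := (v1_smul_eq_iff hn hc g (ModV.mk ⟨v, hv⟩)).1 (h _)
    simpa using this
  · intro h w
    rw [v1_smul_eq_iff]
    exact h _ (ModV.val w).2

theorem modv_fix_card (A : Subgroup G) :
    Nat.card (Cfsg.Agent.Helper14.Bhs.fix (ModV V hn hc) A) =
      Nat.card (V ⊓ Subgroup.centralizer (A : Set G) : Subgroup G) := by
  refine Nat.card_congr
    { toFun := fun w => ⟨(ModV.val w.1 : G), ⟨(ModV.val w.1).2, ?_⟩⟩
      invFun := fun x => ⟨ModV.mk ⟨x.1, x.2.1⟩, ?_⟩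
      left_inv := fun w => by
        apply Subtype.ext
        rfl
      right_inv := fun x => by
        apply Subtype.ext
        rfl }
  · show (ModV.val w.1 : G) ∈ Subgroup.centralizer (A : Set G)
    rw [Subgroup.mem_centralizer_iff]
    intro a ha
    have h1 : a • (w.1 : ModV V hn hc) = w.1 := w.2 a ha
    have h2 := (v1_smul_eq_iff hn hc a w.1).1 h1
    exact h2.symm
  · intro a ha
    rw [v1_smul_eq_iff]
    have h1 := (Subgroup.mem_centralizer_iff.1 x.2.2) a ha
    exact h1.symm

theorem modv_fixOne_card (a : G) :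
    Nat.card {w : ModV V hn hc // a • w = w} =
      Nat.card (V ⊓ Subgroup.centralizer ({a} : Set G) : Subgroup G) := by
  refine Nat.card_congr
    { toFun := fun w => ⟨(ModV.val w.1 : G), ⟨(ModV.val w.1).2, ?_⟩⟩
      invFun := fun x => ⟨ModV.mk ⟨x.1, x.2.1⟩, ?_⟩
      left_inv := fun w => by
        apply Subtype.ext
        rfl
      right_inv := fun x => by
        apply Subtype.ext
        rfl }
  · show (ModV.val w.1 : G) ∈ Subgroup.centralizer ({a} : Set G)
    rw [Subgroup.mem_centralizer_iff]
    intro b hb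
    rw [Set.mem_singleton_iff] at hb
    subst hb
    have h2 := (v1_smul_eq_iff hn hc b w.1).1 w.2
    exact h2.symm
  · rw [v1_smul_eq_iff]
    have h1 := (Subgroup.mem_centralizer_iff.1 x.2.2) a (Set.mem_singleton a)
    exact h1.symm

theorem modv_exp {p : ℕ} (hexp : ∀ v ∈ V, v ^ p = 1) : ∀ w : ModV V hn hc, p • w = 0 := by
  intro w
  apply ModV.val_injective
  rw [ModV.val_nsmul, ModV.val_zero]
  apply Subtype.ext
  rw [Subgroup.coe_pow, Subgroup.coe_one]
  exact hexp _ (ModV.val w).2

end Cfsg.Agent.Helper17.Baum
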