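import Mathlib
import Cfsg.Agent.Lib.Helper17.BaumDefs
import Cfsg.Agent.Lib.Baum.A

/-! S2768/S2769/S2770 farm-out, piece BM-V2 (see plans/S2768_plan.md). -/

set_option autoImplicit false
set_option linter.unusedVariables false

namespace Cfsg.Agent.Helper17.Baum

open scoped Pointwise

universe u v

variable {G : Type u} [Group G]

variable [Finite G] {p q : ℕ} [Fact p.Prime] {S Q M V : Subgroup G}

/-- Frattini argument, elementwise: if `n` normalizes `A` and `R₀` is a Sylow subgroup of `A`, then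
`n ∈ A * N_G(R)`. -/
theorem v2_frattini {A : Subgroup G} (R₀ : Sylow p A) {n : G}
    (hn : n ∈ Subgroup.normalizer (A : Set G)) :
    ∃ a ∈ A, a⁻¹ * n ∈
      Subgroup.normalizer ((((R₀ : Subgroup A).map A.subtype : Subgroup G)) : Set G) := by
  have hn' : ∀ x, x ∈ A ↔ n * x * n⁻¹ ∈ A := fun x => Subgroup.mem_normalizer_iff.1 hn x
  let φ : ↥A ≃* ↥A :=
    { toFun := fun x => ⟨n * x * n⁻¹, (hn' x).1 x.2⟩
      invFun := fun x => ⟨n⁻¹ * x * n, by
        rw [hn']
        have : n * (n⁻¹ * (x : G) * n) * n⁻¹ = x := by group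
        rw [this]
        exact x.2⟩
      left_inv := fun x => by
        apply Subtype.ext
        show n⁻¹ * (n * (x : G) * n⁻¹) * n = x
        group
      right_inv := fun x => by
        apply Subtype.ext
        show n * (n⁻¹ * (x : G) * n) * n⁻¹ = x
        group
      map_mul' := fun x y => by
        apply Subtype.ext
        show n * ((x : G) * y) * n⁻¹ = (n * x * n⁻¹) * (n * y * n⁻¹)
        group }
  obtain ⟨a, ha⟩ := MulAction.exists_smul_eq ↥A R₀ (φ • R₀)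
  have key : ∀ x : ↥A, a⁻¹ * x * a ∈ (R₀ : Subgroup A) ↔ φ.symm x ∈ (R₀ : Subgroup A) := by
    intro x
    have h1 : x ∈ ((a • R₀ : Sylow p A) : Subgroup A) ↔ x ∈ ((φ • R₀ : Sylow p A) : Subgroup A) := by
      rw [ha]
    rw [Sylow.coe_subgroup_smul, Sylow.pointwise_smul_def,
      Subgroup.mem_pointwise_smul_iff_inv_smul_mem,
      Subgroup.mem_pointwise_smul_iff_inv_smul_mem] at h1
    simpa [MulAut.smul_def] using h1
  refine ⟨a, a.2, ?_⟩
  rw [Subgroup.mem_normalizer_iff]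
  intro r
  constructor
  · rintro ⟨r₀, hr₀, rfl⟩
    have h2 : φ.symm (φ r₀) ∈ (R₀ : Subgroup A) := by
      rw [MulEquiv.symm_apply_apply]
      exact hr₀
    have h3 := (key (φ r₀)).2 h2
    refine ⟨a⁻¹ * φ r₀ * a, h3, ?_⟩
    show (a : G)⁻¹ * (n * (r₀ : G) * n⁻¹) * a = (a : G)⁻¹ * n * (r₀ : G) * ((a : G)⁻¹ * n)⁻¹
    group
  · rintro ⟨y₀, hy₀, hy⟩
    have h2 : a⁻¹ * (a * y₀ * a⁻¹) * a ∈ (R₀ : Subgroup A) := by
      have : a⁻¹ * (a * y₀ * a⁻¹) * a = y₀ := by group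
      rw [this]
      exact hy₀
    have h3 := (key (a * y₀ * a⁻¹)).1 h2
    refine ⟨φ.symm (a * y₀ * a⁻¹), h3, ?_⟩
    show n⁻¹ * ((a : G) * (y₀ : G) * (a : G)⁻¹) * n = r
    have hy' : (y₀ : G) = (a : G)⁻¹ * n * r * ((a : G)⁻¹ * n)⁻¹ := hy
    rw [hy']
    group

/-- a `p`-subgroup of `M` is `M`-conjugate into a Sylow subgroup lying in `M`. -/
theorem v2_conj_into (P : Sylow p G) {M R : Subgroup G} (hPM : (P : Subgroup G) ≤ M)
    (hRM : R ≤ M) (hR : IsPGroup p R) :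
    ∃ m ∈ M, ∀ r ∈ R, m * r * m⁻¹ ∈ (P : Subgroup G) := by
  let PM : Sylow p M := P.subtype hPM
  have hRp : IsPGroup p (R.subgroupOf M) := hR.comap_subtype
  obtain ⟨T, hT⟩ := hRp.exists_le_sylow
  obtain ⟨m, hm⟩ := MulAction.exists_smul_eq ↥M T PM
  refine ⟨m, m.2, ?_⟩
  intro r hr
  have h1 : (⟨r, hRM hr⟩ : M) ∈ (T : Subgroup M) := hT (Subgroup.mem_subgroupOf.2 hr)
  have h2 : m * ⟨r, hRM hr⟩ * m⁻¹ ∈ ((m • T : Sylow p M) : Subgroup M) := by
    rw [Sylow.coe_subgroup_smul]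
    exact Subgroup.smul_mem_pointwise_smul _ _ _ h1
  rw [hm] at h2
  exact Subgroup.mem_subgroupOf.1 h2

/-- `M / C` contains the normalizers of its nontrivial `p`-subgroups, in `G`-terms. -/
theorem hypR_nc (h : HypR p q S Q M) {C : Subgroup G} (hC : C.Normal) (hCM : C ≤ M)
    (hCS : C ⊓ S = Q) :
    ∀ A : Subgroup G, A ≤ M → C ≤ A → A ≠ C → (∀ a ∈ A, ∃ k : ℕ, a ^ (p ^ k) ∈ C) →
      Subgroup.normalizer (A : Set G) ≤ M := by
  intro A hAM hCA hAC hpow
  obtain ⟨P, hP⟩ := h.syl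
  obtain ⟨R₀⟩ : Nonempty (Sylow p A) := Sylow.nonempty
  have hRA : (R₀ : Subgroup A).map A.subtype ≤ A := by
    rintro _ ⟨x, -, rfl⟩
    exact x.2
  have hRp : IsPGroup p ((R₀ : Subgroup A).map A.subtype) := R₀.isPGroup'.map A.subtype
  -- the Sylow subgroup of `A` is not inside `C`
  have hRC : ¬ (R₀ : Subgroup A).map A.subtype ≤ C := by
    intro hle
    have hK : (C.subgroupOf A).Normal := hC.subgroupOf A
    have hpq : IsPGroup p (↥A ⧸ C.subgroupOf A) := by
      intro x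
      obtain ⟨a, rfl⟩ := QuotientGroup.mk_surjective x
      obtain ⟨k, hk⟩ := hpow a a.2
      refine ⟨k, ?_⟩
      rw [← QuotientGroup.mk_pow, QuotientGroup.eq_one_iff]
      exact Subgroup.mem_subgroupOf.2 (by simpa using hk)
    have hdvd : p ∣ (C.subgroupOf A).index := by
      rcases hpq.card_eq_or_dvd with h1 | h1
      · exfalso
        have h2 : (C.subgroupOf A).index = 1 := h1
        rw [Subgroup.index_eq_one, Subgroup.subgroupOf_eq_top] at h2
        exact hAC (le_antisymm h2 hCA)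
      · exact h1
    have hle' : (R₀ : Subgroup A) ≤ C.subgroupOf A := by
      intro x hx
      exact Subgroup.mem_subgroupOf.2 (hle (Subgroup.mem_map_of_mem _ hx))
    exact R₀.not_dvd_index (dvd_trans hdvd (Subgroup.index_dvd_of_le hle'))
  -- conjugate into `S` inside `M`
  have hPM : (P : Subgroup G) ≤ M := by
    rw [hP]
    exact h.SM
  obtain ⟨m, hmM, hm⟩ := v2_conj_into P hPM (hRA.trans hAM) hRp
  have hR'S : ((R₀ : Subgroup A).map A.subtype).map (MulAut.conj m).toMonoidHom ≤ S := by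
    rintro _ ⟨r, hr, rfl⟩
    rw [← hP]
    exact hm r hr
  have hR'Q : ¬ ((R₀ : Subgroup A).map A.subtype).map (MulAut.conj m).toMonoidHom ≤ Q := by
    intro hle
    apply hRC
    intro r hr
    have h1 : m * r * m⁻¹ ∈ Q := hle ⟨r, hr, rfl⟩
    have h2 : m * r * m⁻¹ ∈ C := by
      rw [← hCS] at h1
      exact h1.1
    have h3 := hC.conj_mem _ h2 m⁻¹
    have h4 : m⁻¹ * (m * r * m⁻¹) * m⁻¹⁻¹ = r := by group
    rw [h4] at h3
    exact h3
  have hN' := h.nor _ hR'S hR'Q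
  have hNR : Subgroup.normalizer ((((R₀ : Subgroup A).map A.subtype : Subgroup G)) : Set G) ≤ M := by
    intro x hx
    have h5 : m * x * m⁻¹ ∈ Subgroup.normalizer
        ((((R₀ : Subgroup A).map A.subtype).map (MulAut.conj m).toMonoidHom : Subgroup G) : Set G) := by
      rw [← Subgroup.map_equiv_normalizer_eq]
      exact ⟨x, hx, rfl⟩
    have h6 := hN' h5
    have h7 : x = m⁻¹ * (m * x * m⁻¹) * m := by group
    rw [h7]
    exact M.mul_mem (M.mul_mem (M.inv_mem hmM) h6) hmM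
  intro n hn
  obtain ⟨a, haA, han⟩ := v2_frattini R₀ hn
  have h8 : n = a * (a⁻¹ * n) := by group
  rw [h8]
  exact M.mul_mem (hAM haA) (hNR han)

end Cfsg.Agent.Helper17.Baum
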