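import Mathlib
import Cfsg.Agent.Lib.Helper17.BaumDefs

/-! S2768/S2769/S2770 farm-out, piece BM-V3 (see plans/S2768_plan.md). -/

set_option autoImplicit false

namespace Cfsg.Agent.Helper17.Baum

universe u v

variable {G : Type u} [Group G]

variable [Finite G] {p q : ℕ} [Fact p.Prime] {S Q M V : Subgroup G}

omit [Finite G] in
theorem v3_card_mul_relIndex {H K : Subgroup G} (hHK : H ≤ K) :
    Nat.card H * H.relIndex K = Nat.card K := by
  have := Subgroup.relIndex_mul_relIndex ⊥ H K bot_le hHK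
  rwa [Subgroup.relIndex_bot_left, Subgroup.relIndex_bot_left] at this

omit [Finite G] in
/-- two commutative subgroups centralizing each other generate a commutative subgroup -/
theorem v3_comm_sup {A B : Subgroup G} (hA : Comm A) (hB : Comm B)
    (hAB : ∀ a ∈ A, ∀ b ∈ B, a * b = b * a) : Comm (A ⊔ B) := by
  have h1 : A ⊔ B ≤ Subgroup.centralizer ((A ⊔ B : Subgroup G) : Set G) := by
    rw [sup_le_iff]
    constructor
    · rw [Subgroup.le_centralizer_iff, sup_le_iff]
      constructor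
      · intro a ha
        rw [Subgroup.mem_centralizer_iff]
        intro a' ha'
        exact hA a' ha' a ha
      · intro b hb
        rw [Subgroup.mem_centralizer_iff]
        intro a ha
        exact hAB a ha b hb
    · rw [Subgroup.le_centralizer_iff, sup_le_iff]
      constructor
      · intro a ha
        rw [Subgroup.mem_centralizer_iff]
        intro b hb
        exact (hAB a ha b hb).symm
      · intro b hb
        rw [Subgroup.mem_centralizer_iff]
        intro b' hb'
        exact hB b' hb' b hb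
  intro x hx y hy
  have := h1 hy
  rw [Subgroup.mem_centralizer_iff] at this
  exact this x hx

/-- Thompson replacement inequality: `|V| |E ∩ Q| ≤ |E| |C_V(E)|` for `E ∈ AbMax S`. -/
theorem hypR_off (h : HypR p q S Q M) (hVn : V.Normal) (hVQ : V ≤ Q)
    (hVc : V ≤ Subgroup.centralizer (Q : Set G)) (hVcomm : Comm V) {E : Subgroup G}
    (hE : E ∈ AbMax S) :
    Nat.card V * Nat.card (E ⊓ Q : Subgroup G) ≤
      Nat.card E * Nat.card (V ⊓ Subgroup.centralizer (E : Set G) : Subgroup G) := by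
  obtain ⟨hES, hEc, hEmax⟩ := hE
  have hE0c : Comm (E ⊓ Q) := fun a ha b hb => hEc a ha.1 b hb.1
  have hcomm : Comm ((E ⊓ Q) ⊔ V) := by
    apply v3_comm_sup hE0c hVcomm
    intro a ha b hb
    have := hVc hb
    rw [Subgroup.mem_centralizer_iff] at this
    exact this a ha.2
  have hle : (E ⊓ Q) ⊔ V ≤ S := sup_le (inf_le_right.trans h.QS) (hVQ.trans h.QS)
  have hcard : Nat.card ((E ⊓ Q) ⊔ V : Subgroup G) ≤ Nat.card E := hEmax _ hle hcomm
  have hinf : (E ⊓ Q) ⊓ V ≤ V ⊓ Subgroup.centralizer (E : Set G) := by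
    intro x hx
    refine ⟨hx.2, ?_⟩
    show x ∈ Subgroup.centralizer (E : Set G)
    rw [Subgroup.mem_centralizer_iff]
    intro e he
    exact hEc e he x hx.1.1
  have hcard2 : Nat.card ((E ⊓ Q) ⊓ V : Subgroup G) ≤
      Nat.card (V ⊓ Subgroup.centralizer (E : Set G) : Subgroup G) :=
    Subgroup.card_le_of_le hinf
  have h1 : Nat.card V * V.relIndex ((E ⊓ Q) ⊔ V) = Nat.card ((E ⊓ Q) ⊔ V : Subgroup G) :=
    v3_card_mul_relIndex le_sup_right
  have h2 : V.relIndex ((E ⊓ Q) ⊔ V) = V.relIndex (E ⊓ Q) :=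
    haveI := hVn; Subgroup.relIndex_sup_right _ _
  have h3 : ((E ⊓ Q) ⊓ V).relIndex (E ⊓ Q) = V.relIndex (E ⊓ Q) :=
    Subgroup.inf_relIndex_left _ _
  have h4 : Nat.card ((E ⊓ Q) ⊓ V : Subgroup G) * ((E ⊓ Q) ⊓ V).relIndex (E ⊓ Q) =
      Nat.card (E ⊓ Q : Subgroup G) := v3_card_mul_relIndex inf_le_left
  rw [h2] at h1
  rw [h3] at h4
  calc Nat.card V * Nat.card (E ⊓ Q : Subgroup G)
      = Nat.card V * (Nat.card ((E ⊓ Q) ⊓ V : Subgroup G) * V.relIndex (E ⊓ Q)) := by rw [h4]
    _ = (Nat.card V * V.relIndex (E ⊓ Q)) * Nat.card ((E ⊓ Q) ⊓ V : Subgroup G) := by ring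
    _ = Nat.card ((E ⊓ Q) ⊔ V : Subgroup G) * Nat.card ((E ⊓ Q) ⊓ V : Subgroup G) := by rw [h1]
    _ ≤ Nat.card E * Nat.card (V ⊓ Subgroup.centralizer (E : Set G) : Subgroup G) :=
        Nat.mul_le_mul hcard hcard2

end Cfsg.Agent.Helper17.Baum
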