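import Mathlib
import Cfsg.Agent.Lib.Helper17.BaumDefs
import Cfsg.Agent.Lib.Baum.A
import Cfsg.Agent.Lib.Baum.OM
import Cfsg.Agent.Lib.Baum.OC
import Cfsg.Agent.Lib.Baum.GS
import Cfsg.Agent.Lib.Baum.TH
import Cfsg.Agent.Lib.Baum.TH3

/-! S2768/S2769/S2770 farm-out, piece BM-X1 (see plans/S2768_plan.md). -/

set_option autoImplicit false

namespace Cfsg.Agent.Helper17.Baum

universe u v

variable {G : Type u} [Group G]

variable [Finite G] {p q : ℕ} [Fact p.Prime] {S Q M V : Subgroup G}

omit [Finite G] in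
/-- if `C ⊔ S = ⊤` with `C` normal and `S` a `p`-group, every `p'`-element lies in `C` -/
theorem x1_coprime_mem {C S : Subgroup G} (hC : C.Normal) (hS : IsPGroup p S)
    (htop : C ⊔ S = ⊤) {x : G} (hx : (orderOf x).Coprime p) : x ∈ C := by
  have hsurj : Function.Surjective ((QuotientGroup.mk' C).comp S.subtype) := by
    intro y
    obtain ⟨g, rfl⟩ := QuotientGroup.mk'_surjective C y
    have hg : g ∈ C ⊔ S := by rw [htop]; exact Subgroup.mem_top g
    have hg' : g ∈ ((C ⊔ S : Subgroup G) : Set G) := hg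
    have := hC
    rw [Subgroup.normal_mul, Set.mem_mul] at hg'
    obtain ⟨c, hc, s, hs, rfl⟩ := hg'
    refine ⟨⟨s, hs⟩, ?_⟩
    show QuotientGroup.mk' C s = QuotientGroup.mk' C (c * s)
    rw [map_mul]
    have : QuotientGroup.mk' C c = 1 := (QuotientGroup.eq_one_iff c).mpr hc
    rw [this, one_mul]
  have hpq : IsPGroup p (G ⧸ C) := hS.of_surjective _ hsurj
  obtain ⟨k, hk⟩ := hpq (QuotientGroup.mk' C x)
  have h1 : orderOf (QuotientGroup.mk' C x) ∣ p ^ k := orderOf_dvd_of_pow_eq_one hk
  have h2 : orderOf (QuotientGroup.mk' C x) ∣ orderOf x := orderOf_map_dvd _ x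
  have h3 : (orderOf x).Coprime (p ^ k) := Nat.Coprime.pow_right k hx
  have h4 : orderOf (QuotientGroup.mk' C x) = 1 :=
    Nat.eq_one_of_dvd_coprimes h3 h2 h1
  rw [orderOf_eq_one_iff] at h4
  exact (QuotientGroup.eq_one_iff x).mp h4

theorem cent_om_le_M (h : HypR p q S Q M) (hZ : ¬ ZZ S ≤ Subgroup.center G) :
    Subgroup.centralizer (Om p (ZZ Q) : Set G) ≤ M := by
  have hWn : (ZZ Q).Normal := ZZ_normal h.Qn
  have hOmn : (Om p (ZZ Q)).Normal := Om_normal p hWn
  have hCn : (Subgroup.centralizer (Om p (ZZ Q) : Set G)).Normal := by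
    have := hOmn
    exact Subgroup.normal_centralizer
  rcases hypR_dich h hCn with hM | htop
  · exact hM
  · exfalso
    apply hZ
    -- all `p'`-elements centralize `Z(Q)`
    have hWQ : ZZ Q ≤ Q := inf_le_left
    have hWp : IsPGroup p (ZZ Q) := h.pgQ.to_le hWQ
    have hcop : ∀ x : G, (orderOf x).Coprime p → ∀ w ∈ ZZ Q, x * w = w * x := by
      intro x hx
      have hxC : x ∈ Subgroup.centralizer (Om p (ZZ Q) : Set G) :=
        x1_coprime_mem hCn h.pgS htop hx
      apply omega_coprime (comm_ZZ Q) hWp hx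
      · intro w hw
        exact hWn.conj_mem w hw x
      · intro w hw hwp
        rw [Subgroup.mem_centralizer_iff] at hxC
        exact (hxC w (mem_Om hw hwp)).symm
    -- `Z(S) ≤ Z(Q)`
    have hZS : ZZ S ≤ ZZ Q := by
      intro z hz
      have hzc : z ∈ Subgroup.centralizer (Q : Set G) := by
        have : z ∈ Subgroup.centralizer (S : Set G) := hz.2
        rw [Subgroup.mem_centralizer_iff] at this ⊢
        intro y hy
        exact this y (h.QS hy)
      exact ⟨h.cQ hzc, hzc⟩
    -- the centralizer of `Z(S)` is everything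
    obtain ⟨P, hP⟩ := h.syl
    have hD : Subgroup.centralizer (ZZ S : Set G) = ⊤ := by
      apply eq_top_of_sylow_le_of_coprime P
      · rw [hP]
        intro s hs
        rw [Subgroup.mem_centralizer_iff]
        intro z hz
        have : z ∈ Subgroup.centralizer (S : Set G) := hz.2
        rw [Subgroup.mem_centralizer_iff] at this
        exact (this s hs).symm
      · intro x hx
        rw [Subgroup.mem_centralizer_iff]
        intro z hz
        exact (hcop x hx z (hZS hz)).symm
    intro z hz
    rw [Subgroup.mem_center_iff]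
    intro g
    have hg : g ∈ Subgroup.centralizer (ZZ S : Set G) := by rw [hD]; exact Subgroup.mem_top g
    rw [Subgroup.mem_centralizer_iff] at hg
    exact (hg z hz).symm

end Cfsg.Agent.Helper17.Baum
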