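import Mathlib
import Cfsg.Agent.Lib.Helper17.BaumDefs
import Cfsg.Agent.Lib.Baum.X1
import Cfsg.Agent.Lib.Baum.V1
import Cfsg.Agent.Lib.Baum.V2
import Cfsg.Agent.Lib.Baum.V3
import Cfsg.Agent.Lib.Baum.M4D

/-! S2768/S2769/S2770 farm-out, piece BM-X2 (see plans/S2768_plan.md). -/

set_option autoImplicit false

namespace Cfsg.Agent.Helper17.Baum

universe u v

variable {G : Type u} [Group G]


variable [Finite G] {p q : ℕ} [Fact p.Prime] {S Q M V : Subgroup G}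

theorem exists_hypV (h : HypR p q S Q M) (hZ : ¬ ZZ S ≤ Subgroup.center G)
    (hE : ∃ E ∈ AbMax S, ¬ E ≤ Q) : ∃ V : Subgroup G, HypV p q S Q V := by
  classical
  obtain ⟨E, hE, hEQ⟩ := hE
  have hQn := h.Qn
  have hZQn : (ZZ Q).Normal := ZZ_normal hQn
  have hZQc : Comm (ZZ Q) := comm_ZZ Q
  set V : Subgroup G := Om p (ZZ Q) with hVdef
  have hVn : V.Normal := Om_normal p hZQn
  have hVZ : V ≤ ZZ Q := Om_le p (ZZ Q)
  have hVQ : V ≤ Q := hVZ.trans inf_le_left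
  have hVcQ : V ≤ Subgroup.centralizer (Q : Set G) := hVZ.trans inf_le_right
  have hVexp : ∀ v ∈ V, v ^ p = 1 := Om_exp hZQc
  have hVc : Comm V := fun a ha b hb => hZQc a (hVZ ha) b (hVZ hb)
  -- the centralizer of `V`
  set C : Subgroup G := Subgroup.centralizer (V : Set G) with hCdef
  have hCM : C ≤ M := cent_om_le_M h hZ
  have hCn : C.Normal := by
    have := hVn
    rw [hCdef]
    infer_instance
  have hQC : Q ≤ C := by
    intro x hx
    rw [hCdef, Subgroup.mem_centralizer_iff]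
    intro v hv
    exact ((Subgroup.mem_centralizer_iff.1 (hVcQ hv)) x hx).symm
  have hCS : C ⊓ S = Q := by
    apply le_antisymm
    · exact hypR_inf_le h hCn hCM
    · exact le_inf hQC h.QS
  have hker : actKer (G := G) (ModV V hVn hVc) = C := modv_actKer hVn hVc
  -- positivity of cards
  have hQpos : 0 < Nat.card Q := Nat.card_pos
  refine ⟨V, ⟨hVn, hVQ, hVcQ, hVexp, ?_⟩⟩
  intro a haS haQ
  have haC : a ∉ C := fun hc => haQ (hCS ▸ (⟨hc, haS⟩ : a ∈ C ⊓ S))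
  -- the hypotheses of `abs_main_G`
  have hpW := modv_exp hVn hVc hVexp
  have hM : M ≠ ⊤ := h.Mco.1
  have hMp : ∃ x ∈ M, x ∉ actKer (G := G) (ModV V hVn hVc) ∧ ∃ k : ℕ, x ^ (p ^ k) = 1 := by
    refine ⟨a, h.SM haS, by rw [hker]; exact haC, ?_⟩
    obtain ⟨k, hk⟩ := h.pgS ⟨a, haS⟩
    exact ⟨k, by simpa using congrArg Subtype.val hk⟩
  have hnc : ∀ A : Subgroup G, A ≤ M → actKer (G := G) (ModV V hVn hVc) ≤ A →
      A ≠ actKer (G := G) (ModV V hVn hVc) →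
      (∀ a ∈ A, ∃ k : ℕ, a ^ (p ^ k) ∈ actKer (G := G) (ModV V hVn hVc)) →
      Subgroup.normalizer (A : Set G) ≤ M := by
    rw [hker]
    exact hypR_nc h hCn hCM hCS
  have hgen : Subgroup.closure {x : G | ∃ k : ℕ, x ^ (p ^ k) = 1} = ⊤ := by
    rw [eq_top_iff, ← h.gen]
    unfold Subgroup.normalClosure
    apply Subgroup.closure_mono
    intro x hx
    obtain ⟨s, hs, hsx⟩ := Group.mem_conjugatesOfSet_iff.1 hx
    obtain ⟨c, hc⟩ := isConj_iff.1 hsx
    obtain ⟨k, hk⟩ := h.pgS ⟨s, hs⟩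
    have hk' : s ^ (p ^ k) = 1 := by simpa using congrArg Subtype.val hk
    refine ⟨k, ?_⟩
    rw [← hc, conj_pow, hk', mul_one, mul_inv_cancel]
  have hoff : ∃ A₀ : Subgroup G,
      (∀ a ∈ A₀, ∀ b ∈ A₀, a * b * a⁻¹ * b⁻¹ ∈ actKer (G := G) (ModV V hVn hVc)) ∧
      (∀ a ∈ A₀, a ^ p ∈ actKer (G := G) (ModV V hVn hVc)) ∧
      ¬ A₀ ≤ actKer (G := G) (ModV V hVn hVc) ∧
      Nat.card (ModV V hVn hVc) * Nat.card (A₀ ⊓ actKer (G := G) (ModV V hVn hVc) : Subgroup G) ≤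
        Nat.card A₀ * Nat.card (Cfsg.Agent.Helper14.Bhs.fix (ModV V hVn hVc) A₀) := by
    rw [hker]
    refine ⟨E, ?_, ?_, ?_, ?_⟩
    · intro a ha b hb
      exact hQC (h.comSQ a (hE.1 ha) b (hE.1 hb))
    · intro a ha
      exact hQC (h.expSQ a (hE.1 ha))
    · intro hEC
      exact hEQ fun x hx => hCS ▸ (⟨hEC hx, hE.1 hx⟩ : x ∈ C ⊓ S)
    · have hEC : E ⊓ C = E ⊓ Q := by
        apply le_antisymm
        · intro x hx
          exact ⟨hx.1, hCS ▸ (⟨hx.2, hE.1 hx.1⟩ : x ∈ C ⊓ S)⟩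
        · exact inf_le_inf_left _ hQC
      rw [hEC, ModV.card_eq, modv_fix_card]
      exact hypR_off h hVn hVQ hVcQ hVc hE
  have key := abs_main_G (W := ModV V hVn hVc) hpW M (by rw [hker]; exact hCM) hM hMp hnc hgen
    hoff a (by rw [hker]; exact haC) S h.pgS
  rw [hker, modv_fixOne_card, ModV.card_eq, inf_comm S C, hCS, h.card] at key
  -- `q * |Q| * |C_V(a)| ≤ |Q| * |V|`
  have key' : Nat.card Q * (q * Nat.card (V ⊓ Subgroup.centralizer ({a} : Set G) : Subgroup G)) ≤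
      Nat.card Q * Nat.card V := by
    calc Nat.card Q * (q * Nat.card (V ⊓ Subgroup.centralizer ({a} : Set G) : Subgroup G))
        = q * Nat.card Q * Nat.card (V ⊓ Subgroup.centralizer ({a} : Set G) : Subgroup G) := by ring
      _ ≤ Nat.card Q * Nat.card V := key
  exact Nat.le_of_mul_le_mul_left key' hQpos

end Cfsg.Agent.Helper17.Baum
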